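import Cfsg.Agent.Lib.JankoUnique.OrderHyp.Dihedral
import Cfsg.Agent.Lib.SmallGroups.Below1092.Kill
import Cfsg.Agent.Lib.Signalizer.LayerBasic
import Cfsg.Agent.Lib.PSolvable.Core
import Cfsg.Agent.Lib.InvertedBound.Count
import Cfsg.Agent.S0496
import Cfsg.Agent.S0983
import Mathlib

/-!
# Groups of order `4 m`, `m` a divisor of 21945, with trivial solvable radical
-/

set_option autoImplicit false
set_option linter.unusedSectionVars false
set_option linter.style.haveILetI false

namespace Cfsg.Agent.Lib.JankoUnique.OrderHyp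

open Subgroup
open scoped commutatorElement

universe u

theorem squarefree_21945 : Squarefree (21945 : ℕ) := by
  rw [show (21945 : ℕ) = 3 * 5 * 7 * 11 * 19 by norm_num]
  refine Nat.squarefree_mul_iff.mpr ⟨by norm_num, ?_, (by norm_num : Nat.Prime 19).squarefree⟩
  refine Nat.squarefree_mul_iff.mpr ⟨by norm_num, ?_, (by norm_num : Nat.Prime 11).squarefree⟩
  refine Nat.squarefree_mul_iff.mpr ⟨by norm_num, ?_, (by norm_num : Nat.Prime 7).squarefree⟩
  exact Nat.squarefree_mul_iff.mpr ⟨by norm_num, Nat.prime_three.squarefree, Nat.prime_five.squarefree⟩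

/-- A divisor of `4 m` is squarefree or a multiple of four. -/
theorem squarefree_or_four_dvd {m n : ℕ} (hm : m ∣ 21945) (hn : n ∣ 4 * m) :
    Squarefree n ∨ 4 ∣ n := by
  have hodd : Odd m := Odd.of_dvd_nat (by decide) hm
  have hmsq : Squarefree m := squarefree_21945.squarefree_of_dvd hm
  by_cases h4 : 4 ∣ n
  · exact Or.inr h4
  left
  have h2 : n ∣ 2 * m := by
    obtain ⟨a, b, ha, hb, rfl⟩ := Nat.dvd_mul.mp hn
    rw [show (4 : ℕ) = 2 ^ 2 by norm_num] at ha
    obtain ⟨i, hi, rfl⟩ := (Nat.dvd_prime_pow Nat.prime_two).mp ha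
    have : i ≤ 1 := by
      by_contra hgt
      exact h4 (Dvd.dvd.mul_right (by rw [show i = 2 by omega]; norm_num) b)
    exact Nat.mul_dvd_mul (by simpa using pow_dvd_pow 2 this) hb
  exact (Nat.squarefree_mul_iff.mpr ⟨Nat.coprime_two_left.mpr hodd, Nat.prime_two.squarefree, hmsq⟩).squarefree_of_dvd h2

theorem isSolvable_of_squarefree {H : Type u} [Group H] [Finite H] (h : Squarefree (Nat.card H)) :
    Group.IsSolvable H := by
  haveI := IsZGroup.of_squarefree h
  infer_instance

theorem order_cases : ∀ d ∈ oddParts, d = 15 ∨ d = 165 ∨ d = 105 ∨ d = 1155 ∨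
    SmallGroups.Below1092.excluded (4 * d) = true := by decide +kernel

theorem sylow_count_cases : ∀ m ∈ oddParts, ∀ d ∈ [15, 165], d ∣ m → m = d ∨
    (d = 15 ∧ (7 ∣ m / d ∨ 11 ∣ m / d ∨ 19 ∣ m / d)) ∨ (d = 165 ∧ (7 ∣ m / d ∨ 19 ∣ m / d)) := by
  decide +kernel

/-- An automorphism of order prime `p` not dividing `q - 1`, with enough fixed Sylow subgroups, is
trivial on a simple group with `q + 1` Sylow `q`-subgroups. -/
theorem aut_eq_one {N : Type u} [Group N] [Finite N] [IsSimpleGroup N] {p q : ℕ} [hp : Fact p.Prime]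
    [hq : Fact q.Prime] (hqN : Nat.card (Sylow q N) = q + 1) (hPq : ∀ P : Sylow q N, Nat.card P = q)
    (hpq : ¬ p ∣ q - 1) (hmod : 2 ≤ (q + 1) % p) (φ : MulAut N) (hφ : orderOf φ ∣ p) : φ = 1 := by
  classical
  haveI : Fintype (Sylow q N) := Fintype.ofFinite _
  rcases (Nat.dvd_prime hp.out).mp hφ with h1 | h1
  · exact orderOf_eq_one_iff.mp h1
  let A : Subgroup (MulAut N) := zpowers φ
  have hA : IsPGroup p A := IsPGroup.of_card (n := 1) (by rw [Nat.card_zpowers, h1, pow_one])
  letI act : MulAction A (Sylow q N) := MulAction.compHom _ A.subtype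
  have hfix := hA.card_modEq_card_fixedPoints (Sylow q N)
  rw [hqN, Nat.ModEq] at hfix
  let F : Subgroup N := InvertedBound.fixedSub φ.toMonoidHom
  -- the fixed Sylow subgroups are centralised
  have hin : ∀ P ∈ MulAction.fixedPoints A (Sylow q N), (P : Subgroup N) ≤ F := by
    intro P hP
    have hmap : (P : Subgroup N).map φ.toMonoidHom = P := by
      have := congrArg (fun Q : Sylow q N => (Q : Subgroup N)) (hP ⟨φ, mem_zpowers φ⟩)
      exact this
    let ψ : MulAut (P : Subgroup N) :=
      ((P : Subgroup N).equivMapOfInjective φ.toMonoidHom φ.injective).trans (MulEquiv.subgroupCongr hmap)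
    have hψ : ∀ x : (P : Subgroup N), ((ψ x : (P : Subgroup N)) : N) = φ x := fun x => rfl
    have hψk : ∀ (k : ℕ) (x : (P : Subgroup N)), (((ψ ^ k) x : (P : Subgroup N)) : N) = (φ ^ k) x := by
      intro k
      induction k with
      | zero => intro x; rfl
      | succ k ih =>
        intro x
        rw [pow_succ', pow_succ', MulAut.mul_apply, MulAut.mul_apply, hψ, ih]
    have h2 : orderOf ψ ∣ p := orderOf_dvd_of_pow_eq_one (MulEquiv.ext fun x => Subtype.ext (by
      rw [hψk, orderOf_dvd_iff_pow_eq_one.mp hφ]; rfl))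
    have h3 : orderOf ψ ∣ q - 1 := by
      have hcard : Nat.card (P : Subgroup N) = q := hPq P
      haveI : IsCyclic (P : Subgroup N) := isCyclic_of_prime_card hcard
      have := orderOf_dvd_natCard ψ
      rwa [IsCyclic.card_mulAut, hcard, Nat.totient_prime hq.out] at this
    have hψ1 : ψ = 1 := by
      rcases (Nat.dvd_prime hp.out).mp h2 with e | e
      · exact orderOf_eq_one_iff.mp e
      · exact absurd (e ▸ h3) hpq
    intro x hx
    rw [InvertedBound.mem_fixedSub]
    have := hψ ⟨x, hx⟩
    rw [hψ1] at this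
    exact this.symm
  -- all Sylow subgroups are centralised
  let T := {P : Sylow q N // (P : Subgroup N) ≤ F}
  have hT2 : 2 ≤ Nat.card T := by
    have h2 : 2 ≤ Nat.card (MulAction.fixedPoints A (Sylow q N)) := by
      have := Nat.mod_le (Nat.card (MulAction.fixedPoints A (Sylow q N))) p
      omega
    refine h2.trans (Nat.card_le_card_of_injective (fun P => (⟨P.1, hin P.1 P.2⟩ : T)) fun a b h => ?_)
    exact Subtype.ext (congrArg (fun x : T => x.1) h)
  have hT : Nat.card T = Nat.card (Sylow q F) := by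
    refine Nat.card_eq_of_bijective (fun P : T => P.1.subtype P.2) ⟨fun a b h => ?_, fun R => ?_⟩
    · refine Subtype.ext (Sylow.ext ?_)
      have h' := congrArg (fun R : Sylow q F => (R : Subgroup F).map F.subtype) h
      simp only [Sylow.coe_subtype, subgroupOf_map_subtype] at h'
      rwa [inf_eq_left.mpr a.2, inf_eq_left.mpr b.2] at h'
    · obtain ⟨P, hP⟩ := (R.2.map F.subtype).exists_le_sylow (G := N)
      have hRcard : q ∣ Nat.card (R : Subgroup F) := by
        have hqF : q ∣ Nat.card F := by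
          obtain ⟨⟨P0, hP0⟩⟩ : Nonempty T := (Nat.card_pos_iff.mp (lt_of_lt_of_le two_pos hT2)).1
          exact hPq P0 ▸ card_dvd_of_le hP0
        simpa using R.pow_dvd_card_of_pow_dvd_card (n := 1) (by simpa using hqF)
      have heq : (P : Subgroup N) = (R : Subgroup F).map F.subtype := by
        refine (eq_of_le_of_card_ge hP ?_).symm
        rw [hPq P, card_map_of_injective F.subtype_injective]
        exact Nat.le_of_dvd Nat.card_pos hRcard
      refine ⟨⟨P, heq ▸ map_subtype_le _⟩, Sylow.ext ?_⟩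
      simp only [Sylow.coe_subtype, heq]
      exact comap_map_eq_self_of_injective F.subtype_injective _
  have hall : ∀ P : Sylow q N, (P : Subgroup N) ≤ F := by
    have hmodT : Nat.card T % q = 1 % q := hT ▸ card_sylow_modEq_one q F
    rw [Nat.mod_eq_of_lt hq.out.one_lt] at hmodT
    have hle : Nat.card T ≤ q + 1 := hqN ▸ Nat.card_le_card_of_injective _ Subtype.val_injective
    have hTeq : Nat.card T = q + 1 := by
      by_contra hne
      rcases Nat.lt_or_ge (Nat.card T) q with hlt | hge
      · rw [Nat.mod_eq_of_lt hlt] at hmodT; omega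
      · rw [show Nat.card T = q by omega, Nat.mod_self] at hmodT; omega
    have hbij := (Nat.bijective_iff_injective_and_card (fun P : T => P.1)).mpr
      ⟨Subtype.val_injective, hTeq.trans hqN.symm⟩
    intro P
    obtain ⟨⟨P', hP'⟩, rfl⟩ := hbij.2 P
    exact hP'
  have htop : F.normalCore = ⊤ := by
    refine ((normalCore_normal F).eq_bot_or_eq_top).resolve_left fun hb => ?_
    obtain ⟨P⟩ := (inferInstance : Nonempty (Sylow q N))
    have hPle : (P : Subgroup N) ≤ F.normalCore := fun x hx g => by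
      refine hall (g • P) ?_
      rw [Sylow.coe_subgroup_smul]
      exact ⟨x, hx, rfl⟩
    rw [hb, le_bot_iff] at hPle
    have := hPq P
    rw [hPle, card_bot] at this
    exact hq.out.one_lt.ne this
  refine MulEquiv.ext fun x => ?_
  exact InvertedBound.mem_fixedSub.mp (normalCore_le F (htop ▸ mem_top x))

/-- The quotient of an involution centraliser by the involution. -/
theorem simple_of_radical {Q : Type u} [Group Q] [Finite Q] [Nontrivial Q] {m : ℕ} (hm : m ∣ 21945)
    (hle : m ≤ 1155) (hQ : Nat.card Q = 4 * m)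
    (hodd : ∀ K : Subgroup Q, K.Normal → Odd (Nat.card K) → K = ⊥)
    (htwo : ∀ K : Subgroup Q, K.Normal → IsPGroup 2 K → K = ⊥) :
    IsSimpleGroup Q ∧ (Nat.card Q = 60 ∨ Nat.card Q = 660) ∧ ¬ IsMulCommutative Q := by
  classical
  have hmodd : Odd m := Odd.of_dvd_nat (by decide) hm
  have hmpos : 0 < m := hmodd.pos
  -- a minimal normal subgroup
  obtain ⟨N, ⟨hNn, hN1⟩, hmin⟩ : ∃ N : Subgroup Q, (N.Normal ∧ N ≠ ⊥) ∧
      ∀ K : Subgroup Q, K.Normal → K ≠ ⊥ → K ≤ N → K = N := by
    let s : Set (Subgroup Q) := {N | N.Normal ∧ N ≠ ⊥}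
    obtain ⟨N, hN⟩ := (Set.toFinite s).exists_minimal ⟨⊤, inferInstance, top_ne_bot⟩
    exact ⟨N, hN.prop, fun K hK hK1 hle => le_antisymm hle (hN.2 ⟨hK, hK1⟩ hle)⟩
  haveI := hNn
  haveI : Nontrivial N := (nontrivial_iff_ne_bot N).mpr hN1
  have hchar : ∀ K : Subgroup N, K.Characteristic → K = ⊥ ∨ K = ⊤ := by
    intro K hK
    by_cases hb : K = ⊥
    · exact Or.inl hb
    right
    have h1 := hmin (K.map N.subtype) inferInstance
      (fun e => hb ((map_eq_bot_iff_of_injective _ N.subtype_injective).mp e)) (map_subtype_le K)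
    exact eq_top_iff.mpr fun x _ => by
      obtain ⟨y, hy, he⟩ := (show (x : Q) ∈ K.map N.subtype by rw [h1]; exact x.2)
      rwa [← Subtype.ext he]
  -- it is perfect
  have hns : commutator N = ⊤ := by
    refine (hchar _ inferInstance).resolve_left fun hb => ?_
    have hcm : ∀ a b : N, a * b = b * a := fun a b => by
      have := commutatorElement_eq_one_iff_mul_comm.mp
        (mem_bot.mp (hb ▸ commutator_mem_commutator (mem_top a) (mem_top b) :
          ⁅a, b⁆ ∈ (⊥ : Subgroup N)))
      exact this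
    by_cases h2 : 2 ∣ Nat.card N
    · haveI : Fact (Nat.Prime 2) := ⟨Nat.prime_two⟩
      obtain ⟨P⟩ := (inferInstance : Nonempty (Sylow 2 N))
      haveI : (P : Subgroup N).Normal := ⟨fun a ha g => by
        rw [hcm g a, mul_inv_cancel_right]; exact ha⟩
      have hP : (P : Subgroup N) = ⊤ := (hchar _ (P.characteristic_of_normal inferInstance)).resolve_left
        (P.ne_bot_of_dvd_card h2)
      refine hN1 (htwo N hNn ?_)
      intro x
      obtain ⟨k, hk⟩ := P.2 ⟨x, by rw [hP]; exact mem_top _⟩
      exact ⟨k, congrArg Subtype.val hk⟩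
    · exact hN1 (hodd N hNn (Nat.odd_iff.mpr (by omega)))
  have hperf : ∀ M : Subgroup N, M.Normal → M ≠ ⊤ → ¬ Squarefree M.index := by
    intro M hM hM1 hsq
    haveI := hM
    haveI : Group.IsSolvable (N ⧸ M) := isSolvable_of_squarefree (by rw [← index_eq_card]; exact hsq)
    haveI : Nontrivial (N ⧸ M) := QuotientGroup.nontrivial_iff.mpr hM1
    refine (Group.IsSolvable.commutator_lt_top_of_nontrivial (N ⧸ M)).ne ?_
    rw [eq_top_iff, ← map_top_of_surjective (QuotientGroup.mk' M) (QuotientGroup.mk'_surjective M), ← hns,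
      _root_.commutator_def, map_commutator, _root_.commutator_def]
    exact commutator_mono le_top le_top
  have hNdvd : Nat.card N ∣ 4 * m := hQ ▸ card_subgroup_dvd_card N
  -- it is simple
  haveI hNs : IsSimpleGroup N := by
    refine ⟨fun M hM => ?_⟩
    haveI := hM
    by_cases hM1 : M = ⊤
    · exact Or.inr hM1
    left
    have h4i : 4 ∣ M.index := (squarefree_or_four_dvd hm ((index_dvd_card M).trans hNdvd)).resolve_left
      (hperf M hM hM1)
    have hModd : Odd (Nat.card M) := by
      rw [← Nat.not_even_iff_odd, even_iff_two_dvd]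
      intro h2
      have h8 : 8 ∣ 4 * m := (mul_dvd_mul h2 h4i).trans (M.card_mul_index ▸ hNdvd)
      obtain ⟨k, hk⟩ := h8
      exact Nat.not_even_iff_odd.mpr hmodd ⟨k, by omega⟩
    have hle' : M ≤ Cfsg.oddCore N := le_sSup ⟨hM, Nat.coprime_two_right.mpr hModd⟩
    rcases hchar (Cfsg.oddCore N) PSolvable.pPrimeCore_characteristic with hb | ht
    · exact le_bot_iff.mp (hb ▸ hle')
    · exfalso
      have := PLayerBasic.oddCore_odd (G := N)
      rw [ht, card_top] at this
      exact hN1 (hodd N hNn this)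
  have hNnc : ¬ IsMulCommutative N := fun hc => by
    have : commutator N = ⊥ := eq_bot_iff.mpr ((commutator_le).mpr fun a _ b _ =>
      mem_bot.mpr (commutatorElement_eq_one_iff_mul_comm.mpr (hc.is_comm.comm a b)))
    exact top_ne_bot (hns.symm.trans this)
  have hN4 : 4 ∣ Nat.card N := by
    have h := hperf ⊥ inferInstance bot_ne_top
    rw [index_bot] at h
    exact (squarefree_or_four_dvd hm hNdvd).resolve_left h
  obtain ⟨d, hd⟩ := hN4
  have hdm : d ∣ m := Nat.dvd_of_mul_dvd_mul_left (by norm_num : 0 < 4) (hd ▸ hNdvd)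
  have hdo : d ∈ oddParts := mem_oddParts (hdm.trans hm) ((Nat.le_of_dvd hmpos hdm).trans hle)
  have hd2 : d = 15 ∨ d = 165 := by
    rcases order_cases d hdo with e | e | e | e | e
    · exact Or.inl e
    · exact Or.inr e
    · exfalso
      have := S0496.result hNnc (by omega)
      omega
    · exfalso
      have := S0983.result hNnc (by omega) (by omega)
      omega
    · exact (SmallGroups.Below1092.false_of_excluded hNnc (hd ▸ e)).elim
  have hmo : m ∈ oddParts := mem_oddParts hm hle
  -- an element of large prime order would centralise it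
  have hmd : m = d := by
    by_contra hne
    have hindex : N.index = m / d := by
      have := N.card_mul_index
      rw [hd, hQ] at this
      rw [← Nat.eq_of_mul_eq_mul_left (by norm_num : 0 < 4) ((mul_assoc 4 d N.index).symm.trans this),
        Nat.mul_div_cancel_left]
      omega
    -- the prime p and the Sylow prime q
    obtain ⟨p, q, hp, hpm, hq, hqN, hqq, hpq, hmod⟩ : ∃ p q : ℕ, p.Prime ∧ p ∣ m / d ∧ q.Prime ∧
        (∀ n, n ∣ Nat.card N / q → n % q = 1 → n ≠ 1 → n = q + 1) ∧
        (q ∣ Nat.card N ∧ ¬ q * q ∣ Nat.card N) ∧ ¬ p ∣ q - 1 ∧ 2 ≤ (q + 1) % p := by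
      rcases sylow_count_cases m hmo d (by rcases hd2 with e | e <;> simp [e]) hdm with
        e | ⟨e, h'⟩ | ⟨e, h'⟩
      · exact absurd e hne
      · have h12 : ∀ n < 13, n ∣ 12 → n % 5 = 1 → n ≠ 1 → n = 6 := by decide
        have hcase : ∀ p, p.Prime → p ∣ m / d → 7 ≤ p → ∃ p q : ℕ, p.Prime ∧ p ∣ m / d ∧ q.Prime ∧
            (∀ n, n ∣ Nat.card N / q → n % q = 1 → n ≠ 1 → n = q + 1) ∧
            (q ∣ Nat.card N ∧ ¬ q * q ∣ Nat.card N) ∧ ¬ p ∣ q - 1 ∧ 2 ≤ (q + 1) % p := by
          intro p hp hpd hp7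
          refine ⟨p, 5, hp, hpd, Nat.prime_five, fun n hn => ?_, ?_, ?_, ?_⟩
          · rw [hd, e] at hn
            exact h12 n (Nat.lt_succ_of_le (Nat.le_of_dvd (by norm_num) hn)) hn
          · rw [hd, e]; norm_num
          · exact fun hd' => by have := Nat.le_of_dvd (by norm_num) hd'; omega
          · rw [Nat.mod_eq_of_lt (by omega)]; norm_num
        rcases h' with h' | h' | h'
        exacts [hcase 7 (by norm_num) h' le_rfl, hcase 11 (by norm_num) h' (by norm_num),
          hcase 19 (by norm_num) h' (by norm_num)]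
      · have h60 : ∀ n < 61, n ∣ 60 → n % 11 = 1 → n ≠ 1 → n = 12 := by decide
        have hcase : ∀ p, p.Prime → p ∣ m / d → ¬ p ∣ 10 → 2 ≤ 12 % p → ∃ p q : ℕ, p.Prime ∧
            p ∣ m / d ∧ q.Prime ∧ (∀ n, n ∣ Nat.card N / q → n % q = 1 → n ≠ 1 → n = q + 1) ∧
            (q ∣ Nat.card N ∧ ¬ q * q ∣ Nat.card N) ∧ ¬ p ∣ q - 1 ∧ 2 ≤ (q + 1) % p := by
          intro p hp hpd hp10 hp12
          refine ⟨p, 11, hp, hpd, by norm_num, fun n hn => ?_, ?_, hp10, hp12⟩
          · rw [hd, e] at hn
            exact h60 n (Nat.lt_succ_of_le (Nat.le_of_dvd (by norm_num) hn)) hn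
          · rw [hd, e]; norm_num
        rcases h' with h' | h'
        exacts [hcase 7 (by norm_num) h' (by norm_num) (by norm_num),
          hcase 19 (by norm_num) h' (by norm_num) (by norm_num)]
    haveI : Fact p.Prime := ⟨hp⟩
    haveI : Fact q.Prime := ⟨hq⟩
    have hpQ : p ∣ Nat.card Q := (hindex ▸ hpm).trans (index_dvd_card N)
    have hpN : ¬ p ∣ Nat.card N := fun h => by
      have h2 : p * p ∣ 4 * m := by
        rw [← hQ, ← N.card_mul_index]
        exact mul_dvd_mul h (hindex ▸ hpm)
      rcases squarefree_or_four_dvd hm h2 with hs | hs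
      · exact hp.ne_one (Nat.isUnit_iff.mp (hs p dvd_rfl))
      · have hp2 : p = 2 := ((Nat.prime_dvd_prime_iff_eq Nat.prime_two hp).mp
          (((Nat.Prime.dvd_mul Nat.prime_two).mp (dvd_trans (by norm_num) hs)).elim id id)).symm
        subst hp2
        have h3 : 2 ∣ m := hpm.trans (Nat.div_dvd_of_dvd hdm)
        exact Nat.not_even_iff_odd.mpr hmodd (even_iff_two_dvd.mpr h3)
    obtain ⟨z, hz⟩ := exists_prime_orderOf_dvd_card' (G := Q) p hpQ
    have hcards : ∀ P : Sylow q N, Nat.card P = q := by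
      intro P
      obtain ⟨k, hk⟩ := IsPGroup.iff_card.mp P.2
      have h1 : q ^ 1 ∣ Nat.card P := P.pow_dvd_card_of_pow_dvd_card (by rw [pow_one]; exact hqq.1)
      rw [hk, Nat.pow_dvd_pow_iff_le_right hq.one_lt] at h1
      have hk1 : k ≤ 1 := by
        by_contra hlt
        exact hqq.2 (pow_two q ▸ (pow_dvd_pow q (show 2 ≤ k by omega)).trans
          (hk ▸ card_subgroup_dvd_card (P : Subgroup N)))
      rw [hk, show k = 1 by omega, pow_one]
    have hcountq : Nat.card (Sylow q N) = q + 1 := by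
      obtain ⟨P⟩ := (inferInstance : Nonempty (Sylow q N))
      refine hqN _ ?_ ((show Nat.card (Sylow q N) % q = 1 % q from card_sylow_modEq_one q N).trans (Nat.mod_eq_of_lt hq.one_lt))
        (SmallGroups.card_sylow_ne_one hNnc q hqq.1)
      have h1 := P.card_dvd_index
      have h2 := (P : Subgroup N).card_mul_index
      rw [hcards P] at h2
      rwa [← h2, Nat.mul_div_cancel_left _ hq.pos]
    have hzc := aut_eq_one hcountq hcards hpq hmod (MulAut.conjNormal z)
      (hz ▸ orderOf_map_dvd _ z)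
    -- the centraliser of the normal subgroup
    set K := centralizer (N : Set Q) with hK
    have hzK : z ∈ K := mem_centralizer_iff.mpr fun x hx => by
      have := congrArg (fun φ : MulAut N => ((φ ⟨x, hx⟩ : N) : Q)) hzc
      exact (mul_inv_eq_iff_eq_mul.mp this).symm
    have hKodd : Odd (Nat.card K) := by
      rw [← Nat.not_even_iff_odd, even_iff_two_dvd]
      intro h2
      haveI : Fact (Nat.Prime 2) := ⟨Nat.prime_two⟩
      obtain ⟨⟨w, hwK⟩, hw⟩ := exists_prime_orderOf_dvd_card' (G := K) 2 h2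
      rw [Subgroup.orderOf_mk] at hw
      -- the kernel of `K → Q ⧸ N` is central in `N`, hence trivial
      have h3 : ((w : Q) : Q ⧸ N) ≠ 1 := fun e => by
        rw [QuotientGroup.eq_one_iff] at e
        have hc : (⟨w, e⟩ : N) ∈ center N := mem_center_iff.mpr fun g =>
          Subtype.ext ((mem_centralizer_iff.mp hwK g g.2))
        rcases (inferInstance : (center N).Normal).eq_bot_or_eq_top with hb | ht
        · rw [hb, mem_bot] at hc
          rw [show w = 1 from congrArg Subtype.val hc, orderOf_one] at hw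
          norm_num at hw
        · exact hNnc ⟨⟨fun a b => mem_center_iff.mp (ht ▸ mem_top b : b ∈ center N) a⟩⟩
      have h4 : orderOf ((w : Q) : Q ⧸ N) ∣ 2 := hw ▸ orderOf_map_dvd (QuotientGroup.mk' N) w
      have h5 : 2 ∣ N.index := by
        rw [index_eq_card, ← ((Nat.dvd_prime Nat.prime_two).mp h4).resolve_left
          (fun e => h3 (orderOf_eq_one_iff.mp e))]
        exact orderOf_dvd_natCard _
      rw [hindex] at h5
      exact Nat.not_even_iff_odd.mpr hmodd (even_iff_two_dvd.mpr (h5.trans (Nat.div_dvd_of_dvd hdm)))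
    rw [hodd K inferInstance hKodd, mem_bot] at hzK
    rw [hzK, orderOf_one] at hz
    exact hp.ne_one hz.symm
  have hNtop : N = ⊤ := eq_top_of_card_eq N (by rw [hd, hQ, hmd])
  subst hNtop
  refine ⟨IsSimpleGroup.isSimpleGroup_of_surjective (f := (topEquiv (G := Q)).toMonoidHom) topEquiv.surjective,
    by rw [hQ, hmd]; omega, fun hc => hNnc ⟨⟨fun a b => Subtype.ext (hc.is_comm.comm (a : Q) b)⟩⟩⟩

end Cfsg.Agent.Lib.JankoUnique.OrderHyp
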