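import Cfsg.Agent.Lib.SmallGroups.Basic
import Cfsg.Agent.Lib.EightInvolution.Local
import Mathlib

/-!
# Simple groups of order 175560: arithmetic of the prime-order elements
-/

set_option autoImplicit false
set_option linter.unusedSectionVars false
set_option linter.style.haveILetI false

namespace Cfsg.Agent.Lib.JankoUnique.OrderHyp

open Subgroup

universe u

variable {G : Type u} [Group G] [Finite G] [IsSimpleGroup G]

theorem nonab (h : Nat.card G = 175560) : ¬ IsMulCommutative G := by
  intro hc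
  haveI := hc
  letI : CommGroup G := { (inferInstance : Group G) with mul_comm := fun a b => hc.is_comm.comm a b }
  have hp := IsSimpleGroup.prime_card (α := G)
  rw [h] at hp
  norm_num at hp

theorem index_ge (h : Nat.card G = 175560) {H : Subgroup G} (hH : H ≠ ⊤) : 19 ≤ H.index := by
  by_contra hlt
  have h1 := (SmallGroups.two_mul_card_dvd_factorial (nonab h) hH).trans
    (Nat.factorial_dvd_factorial (show H.index ≤ 18 by omega))
  rw [h] at h1
  revert h1
  decide +kernel

theorem card_le (h : Nat.card G = 175560) {H : Subgroup G} (hH : H ≠ ⊤) : Nat.card H ≤ 9240 := by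
  have h1 := H.card_mul_index
  rw [h] at h1
  have h2 := index_ge h hH
  have : Nat.card H * 19 ≤ 175560 := h1 ▸ Nat.mul_le_mul_left _ h2
  omega

theorem centralizer_ne_top (h : Nat.card G = 175560) {z : G} (hz : z ≠ 1) :
    centralizer ({z} : Set G) ≠ ⊤ := by
  intro htop
  have hzc : z ∈ center G := mem_center_iff.mpr fun g =>
    mem_centralizer_singleton_iff.mp (htop ▸ mem_top g : g ∈ centralizer ({z} : Set G))
  rcases ((center G).normal_of_characteristic).eq_bot_or_eq_top with hb | ht
  · rw [hb, mem_bot] at hzc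
    exact hz hzc
  · exact nonab h ⟨⟨fun a b => (mem_center_iff.mp (ht ▸ mem_top b : b ∈ center G) a)⟩⟩

theorem card_sylow_two (h : Nat.card G = 175560) (S : Sylow 2 G) : Nat.card (S : Subgroup G) = 8 := by
  haveI : Fact (Nat.Prime 2) := ⟨Nat.prime_two⟩
  obtain ⟨n, hn⟩ := IsPGroup.iff_card.mp S.2
  have hd := (S : Subgroup G).card_subgroup_dvd_card
  rw [hn, h] at hd
  have h3 : 2 ^ 3 ∣ Nat.card (S : Subgroup G) := S.pow_dvd_card_of_pow_dvd_card (by rw [h]; norm_num)
  rw [hn, Nat.pow_dvd_pow_iff_le_right (by norm_num)] at h3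
  have hn3 : n ≤ 3 := by
    by_contra hlt
    have h16 := (pow_dvd_pow 2 (show 4 ≤ n by omega)).trans hd
    norm_num at h16
  rw [hn, show n = 3 by omega]
  norm_num

/-- The five odd primes. -/
theorem prime_mem (h : Nat.card G = 175560) {q : ℕ} (hq : q.Prime) (h2 : q ≠ 2)
    (hd : q ∣ Nat.card G) : q ∈ [3, 5, 7, 11, 19] := by
  rw [h, show (175560 : ℕ) = 2 ^ 3 * (3 * (5 * (7 * (11 * 19)))) by norm_num] at hd
  rcases hq.dvd_mul.mp hd with h' | h'
  · exact absurd ((Nat.prime_dvd_prime_iff_eq hq Nat.prime_two).mp (hq.dvd_of_dvd_pow h')) h2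
  rcases hq.dvd_mul.mp h' with h' | h'
  · simp [(Nat.prime_dvd_prime_iff_eq hq Nat.prime_three).mp h']
  rcases hq.dvd_mul.mp h' with h' | h'
  · simp [(Nat.prime_dvd_prime_iff_eq hq Nat.prime_five).mp h']
  rcases hq.dvd_mul.mp h' with h' | h'
  · simp [(Nat.prime_dvd_prime_iff_eq hq (by norm_num : Nat.Prime 7)).mp h']
  rcases hq.dvd_mul.mp h' with h' | h'
  · simp [(Nat.prime_dvd_prime_iff_eq hq (by norm_num : Nat.Prime 11)).mp h']
  · simp [(Nat.prime_dvd_prime_iff_eq hq (by norm_num : Nat.Prime 19)).mp h']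

theorem centralizer_zpowers_eq (z : G) :
    centralizer ((zpowers z : Subgroup G) : Set G) = centralizer ({z} : Set G) := by
  rw [zpowers_eq_closure, centralizer_closure]

/-- Sylow theory and Burnside's transfer for an element of odd prime order. -/
theorem prime_data (h : Nat.card G = 175560) {q : ℕ} (hq : q ∈ [3, 5, 7, 11, 19]) {z : G}
    (hz : orderOf z = q) :
    ∃ n e : ℕ, n * (e * Nat.card (centralizer ({z} : Set G))) = 175560 ∧ n % q = 1 ∧ 19 ≤ n ∧
      e ∣ q - 1 ∧ e ≠ 1 ∧
      (centralizer ({z} : Set G)).relIndex (normalizer (zpowers z : Set G)) = e ∧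
      q ∣ Nat.card (centralizer ({z} : Set G)) := by
  have hp : q.Prime := by
    simp only [List.mem_cons, List.not_mem_nil, or_false] at hq
    rcases hq with rfl | rfl | rfl | rfl | rfl <;> norm_num
  haveI : Fact q.Prime := ⟨hp⟩
  have hd : q ∣ Nat.card G := hz ▸ orderOf_dvd_natCard z
  have hnsq : ¬ q * q ∣ Nat.card G := by
    rw [h]
    simp only [List.mem_cons, List.not_mem_nil, or_false] at hq
    rcases hq with rfl | rfl | rfl | rfl | rfl <;> norm_num
  obtain ⟨P, hP⟩ := (IsPGroup.of_card (G := zpowers z) (n := 1)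
    (by rw [Nat.card_zpowers, hz, pow_one])).exists_le_sylow (G := G)
  have hPeq : (P : Subgroup G) = zpowers z := by
    refine (eq_of_le_of_card_ge hP ?_).symm
    obtain ⟨k, hk⟩ := IsPGroup.iff_card.mp P.2
    rw [Nat.card_zpowers, hz, hk]
    rcases le_or_gt k 1 with hk1 | hk1
    · exact (Nat.pow_le_pow_right hp.pos hk1).trans_eq (pow_one q)
    · exact absurd ((pow_two q ▸ pow_dvd_pow q hk1).trans (hk ▸ (P : Subgroup G).card_subgroup_dvd_card)) hnsq
  set N := normalizer (zpowers z : Set G) with hN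
  have hCeq : centralizer ((P : Subgroup G) : Set G) = centralizer ({z} : Set G) := by
    rw [hPeq, centralizer_zpowers_eq]
  have hCN : centralizer ({z} : Set G) ≤ N := by
    rw [← centralizer_zpowers_eq]
    exact centralizer_le_normalizer _
  set e := (centralizer ({z} : Set G)).relIndex N with he
  have hNcard : e * Nat.card (centralizer ({z} : Set G)) = Nat.card N := by
    rw [he, Subgroup.relIndex, mul_comm,
      ← Nat.card_congr (subgroupOfEquivOfLe hCN).toEquiv]
    exact card_mul_index _
  refine ⟨N.index, e, ?_, ?_, ?_, ?_, ?_, rfl,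
    hz ▸ Subgroup.orderOf_dvd_natCard _ (mem_centralizer_singleton_iff.mpr rfl :
      z ∈ centralizer ({z} : Set G))⟩
  · rw [hNcard, ← h, mul_comm, card_mul_index]
  · have h1 := card_sylow_modEq_one q G
    rw [P.card_eq_index_normalizer, show ((P : Set G)) = (zpowers z : Set G) by rw [← hPeq]; rfl] at h1
    exact (show N.index % q = 1 % q from h1).trans (Nat.mod_eq_of_lt hp.one_lt)
  · refine index_ge h ?_
    rw [hN, ← hPeq]
    exact SmallGroups.normalizer_sylow_ne_top (nonab h) hd P
  · rw [he, ← centralizer_zpowers_eq, Subgroup.relIndex]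
    rw [← normalizerMonoidHom_ker, index_ker]
    have h1 := card_subgroup_dvd_card (zpowers z).normalizerMonoidHom.range
    rwa [IsCyclic.card_mulAut, Nat.card_zpowers, hz, Nat.totient_prime hp] at h1
  · intro h1
    refine SmallGroups.not_normalizer_le_centralizer (nonab h) hd P ?_
    rw [hCeq, hPeq]
    exact relIndex_eq_one.mp h1

theorem no_fiftysix_arith : ∀ q ∈ [3, 5, 7, 11, 19], ∀ k ∈ [1, 3, 5, 11, 15, 19, 33, 55, 57, 95, 165,
    209, 285, 627, 1045, 3135], ∀ e < 19, e ∣ q - 1 → e ≠ 1 → q ∣ 56 * k → e * (56 * k) ∣ 175560 →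
      175560 / (e * (56 * k)) % q = 1 → 175560 / (e * (56 * k)) < 19 := by
  decide +kernel

theorem mem_divisors_3135 {k : ℕ} (hk : k ∣ 3135) : k ∈ [1, 3, 5, 11, 15, 19, 33, 55, 57, 95, 165,
    209, 285, 627, 1045, 3135] := by
  rw [show (3135 : ℕ) = 3 * (5 * (11 * 19)) by norm_num] at hk
  obtain ⟨a, k₁, ha, hk₁, rfl⟩ := Nat.dvd_mul.mp hk
  obtain ⟨b, k₂, hb, hk₂, rfl⟩ := Nat.dvd_mul.mp hk₁
  obtain ⟨c, d, hc, hd, rfl⟩ := Nat.dvd_mul.mp hk₂
  rcases (Nat.dvd_prime Nat.prime_three).mp ha with rfl | rfl <;>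
    rcases (Nat.dvd_prime Nat.prime_five).mp hb with rfl | rfl <;>
    rcases (Nat.dvd_prime (by norm_num : Nat.Prime 11)).mp hc with rfl | rfl <;>
    rcases (Nat.dvd_prime (by norm_num : Nat.Prime 19)).mp hd with rfl | rfl <;> simp

/-- No element of odd prime order commutes with a Sylow 2-subgroup and an element of order 7. -/
theorem not_fiftysix (h : Nat.card G = 175560) {q : ℕ} (hq : q ∈ [3, 5, 7, 11, 19]) {z : G}
    (hz : orderOf z = q) : ¬ 56 ∣ Nat.card (centralizer ({z} : Set G)) := by
  rintro ⟨k, hk⟩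
  obtain ⟨n, e, hne, hn, hn19, he, he1, -, hqc⟩ := prime_data h hq hz
  rw [hk] at hne hqc
  have hk3 : k ∣ 3135 := Nat.dvd_of_mul_dvd_mul_left (by norm_num : 0 < 56)
    (show 56 * k ∣ 56 * 3135 from ⟨n * e, by
      calc 56 * 3135 = 175560 := by norm_num
        _ = n * (e * (56 * k)) := hne.symm
        _ = 56 * k * (n * e) := by ring⟩)
  have hq19 : q ≤ 19 ∧ 3 ≤ q := by
    simp only [List.mem_cons, List.not_mem_nil, or_false] at hq
    omega
  have he19 : e < 19 := by
    have := Nat.le_of_dvd (by omega) he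
    omega
  have hpos : 0 < e * (56 * k) := Nat.pos_of_ne_zero fun h0 => by
    rw [h0, mul_zero] at hne; norm_num at hne
  have hdiv : 175560 / (e * (56 * k)) = n := by
    rw [← hne, Nat.mul_div_cancel _ hpos]
  have := no_fiftysix_arith q hq k
    (mem_divisors_3135 hk3) e he19 he he1 hqc
    ⟨n, by rw [mul_comm]; exact hne.symm⟩ (by rw [hdiv]; exact hn)
  rw [hdiv] at this
  omega

/-- The centraliser of the Sylow 2-subgroup has no odd part, given an element of order 7 normalising it. -/
theorem card_centralizer_sylow (h : Nat.card G = 175560) (S : Sylow 2 G)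
    (hab : ∀ a ∈ (S : Subgroup G), ∀ b ∈ (S : Subgroup G), a * b = b * a) {y : G}
    (hy : orderOf y = 7) (hyN : y ∈ normalizer ((S : Subgroup G) : Set G)) :
    centralizer ((S : Subgroup G) : Set G) = (S : Subgroup G) := by
  classical
  haveI : Fact (Nat.Prime 2) := ⟨Nat.prime_two⟩
  set C := centralizer ((S : Subgroup G) : Set G) with hC
  have hSC : (S : Subgroup G) ≤ C := fun x hx => mem_centralizer_iff.mpr fun s hs => hab s hs x hx
  have h8 := card_sylow_two h S
  by_contra hne
  obtain ⟨m, hm⟩ := card_dvd_of_le hSC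
  rw [h8] at hm
  have hm1 : m ≠ 1 := fun h1 => hne (eq_of_le_of_card_ge hSC (by rw [hm, h8, h1])).symm
  obtain ⟨q, hq, hqm⟩ := Nat.exists_prime_and_dvd hm1
  have hqC : q ∣ Nat.card C := hm ▸ dvd_mul_of_dvd_right hqm 8
  have hCG : 8 * m ∣ 8 * 21945 := by
    rw [← hm, show 8 * 21945 = Nat.card G by rw [h]]
    exact card_subgroup_dvd_card C
  have hq2 : q ≠ 2 := fun h2 => by
    have : 2 ∣ 21945 := h2 ▸ hqm.trans (Nat.dvd_of_mul_dvd_mul_left (by norm_num) hCG)
    norm_num at this
  have hmem := prime_mem h hq hq2 (hqC.trans (card_subgroup_dvd_card C))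
  haveI : Fact q.Prime := ⟨hq⟩
  have key : ∀ z : G, orderOf z = q → z ∈ C → ∀ x : G, orderOf x = 7 → x * z = z * x → False := by
    intro z hz hzC x hx hxz
    refine not_fiftysix h hmem hz (Nat.Coprime.mul_dvd_of_dvd_of_dvd (by norm_num : Nat.Coprime 8 7) ?_ ?_)
    · rw [← h8]
      exact card_dvd_of_le fun s hs =>
        mem_centralizer_singleton_iff.mpr (mem_centralizer_iff.mp hzC s hs)
    · rw [← hx]
      exact orderOf_dvd_natCard _ (mem_centralizer_singleton_iff.mpr hxz)
  by_cases h7 : 7 ∣ Nat.card C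
  · haveI : Fact (Nat.Prime 7) := ⟨by norm_num⟩
    obtain ⟨⟨x, hxC⟩, hx⟩ := exists_prime_orderOf_dvd_card' (G := C) 7 h7
    rw [Subgroup.orderOf_mk] at hx
    -- any element of the centraliser of order `q` commuting with it, starting with itself
    refine not_fiftysix h (by simp) hx (Nat.Coprime.mul_dvd_of_dvd_of_dvd (by norm_num : Nat.Coprime 8 7) ?_ ?_)
    · rw [← h8]
      exact card_dvd_of_le fun s hs =>
        mem_centralizer_singleton_iff.mpr (mem_centralizer_iff.mp hxC s hs)
    · rw [← hx]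
      exact orderOf_dvd_natCard _ (mem_centralizer_singleton_iff.mpr rfl)
  · -- Frattini argument in the normaliser
    set N := normalizer ((S : Subgroup G) : Set G)
    have hCN : C ≤ N := centralizer_le_normalizer _
    haveI hnorm : (C.subgroupOf N).Normal := by
      rw [hC, ← normalizerMonoidHom_ker]; infer_instance
    let C' := C.subgroupOf N
    have hC' : Nat.card C' = Nat.card C := Nat.card_congr (subgroupOfEquivOfLe hCN).toEquiv
    obtain ⟨Q⟩ := (inferInstance : Nonempty (Sylow q C'))
    have hfr := Sylow.normalizer_sup_eq_top Q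
    set M := normalizer (((Q : Subgroup C').map C'.subtype : Subgroup N) : Set N) with hM
    have h7M : 7 ∣ Nat.card M := by
      have h1 : C'.index ∣ Nat.card M := by
        rw [← relIndex_top_right, ← hfr, relIndex_sup_right]
        exact (Subgroup.index_dvd_card _)
      have h2 : 7 ∣ Nat.card C' * C'.index := by
        rw [C'.card_mul_index]
        exact hy ▸ Subgroup.orderOf_dvd_natCard _ hyN
      exact ((Nat.Prime.dvd_mul (by norm_num)).mp h2).resolve_left (by rw [hC']; exact h7) |>.trans h1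
    haveI : Fact (Nat.Prime 7) := ⟨by norm_num⟩
    obtain ⟨⟨x, hxM⟩, hx⟩ := exists_prime_orderOf_dvd_card' (G := M) 7 h7M
    rw [Subgroup.orderOf_mk] at hx
    set R := (Q : Subgroup C').map C'.subtype with hR
    have hRcard : Nat.card R = q := by
      rw [hR, card_map_of_injective C'.subtype_injective]
      obtain ⟨k, hk⟩ := IsPGroup.iff_card.mp Q.2
      have h1 : q ^ 1 ∣ Nat.card (Q : Subgroup C') :=
        Q.pow_dvd_card_of_pow_dvd_card (by rw [pow_one, hC']; exact hqC)
      rw [hk, Nat.pow_dvd_pow_iff_le_right hq.one_lt] at h1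
      have h2 : Nat.card (Q : Subgroup C') ∣ Nat.card G := by
        refine (card_subgroup_dvd_card _).trans (hC' ▸ card_subgroup_dvd_card C)
      rw [hk, h] at h2
      rw [hk]
      have hk1 : k ≤ 1 := by
        by_contra hlt
        have h3 := (pow_dvd_pow q (show 2 ≤ k by omega)).trans h2
        simp only [List.mem_cons, List.not_mem_nil, or_false] at hmem
        rcases hmem with rfl | rfl | rfl | rfl | rfl <;> norm_num at h3
      rw [show k = 1 by omega, pow_one]
    obtain ⟨⟨z, hzR⟩, hz⟩ := exists_prime_orderOf_dvd_card' (G := R) q (by rw [hRcard])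
    rw [Subgroup.orderOf_mk] at hz
    have hgen : R = zpowers z := (eq_of_le_of_card_ge (zpowers_le.mpr hzR)
      (by rw [Nat.card_zpowers, hz, hRcard])).symm
    have hxz : x * z = z * x := by
      have h1 := card_subgroup_dvd_card R.normalizerMonoidHom.range
      haveI : IsCyclic R := isCyclic_of_prime_card hRcard
      rw [IsCyclic.card_mulAut, hRcard, Nat.totient_prime hq] at h1
      have hxx : (⟨x, hxM⟩ : M) ∈ R.normalizerMonoidHom.ker := by
        rw [MonoidHom.mem_ker, ← orderOf_eq_one_iff]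
        have h2 : orderOf (R.normalizerMonoidHom ⟨x, hxM⟩) ∣ 7 := by
          rw [← hx, ← Subgroup.orderOf_mk x hxM]
          exact orderOf_map_dvd _ _
        refine ((Nat.dvd_prime (by norm_num : Nat.Prime 7)).mp h2).resolve_right fun h3 => ?_
        have h4 : 7 ∣ q - 1 := by
          rw [← h3]
          exact (Subgroup.orderOf_dvd_natCard R.normalizerMonoidHom.range
            ⟨⟨x, hxM⟩, rfl⟩).trans h1
        have hq7 : q ≠ 7 := fun e => h7 (e ▸ hqC)
        simp only [List.mem_cons, List.not_mem_nil, or_false] at hmem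
        rcases hmem with rfl | rfl | rfl | rfl | rfl <;> norm_num at h4
      rw [normalizerMonoidHom_ker, mem_subgroupOf, mem_centralizer_iff] at hxx
      exact (hxx z hzR).symm
    obtain ⟨w, -, hwz⟩ := Subgroup.mem_map.mp hzR
    exact key (z : G) ((Subgroup.orderOf_coe z).trans hz) (by
        rw [← hwz]; exact mem_subgroupOf.mp w.2) (x : G) ((Subgroup.orderOf_coe x).trans hx)
      (congrArg Subtype.val hxz)

end Cfsg.Agent.Lib.JankoUnique.OrderHyp
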