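import Cfsg.Agent.Lib.JankoUnique.OrderHyp.Sylow
import Cfsg.Agent.Lib.JankoOrder.Four
import Cfsg.Agent.Lib.Involution.Basic
import Cfsg.Agent.S3189
import Mathlib

/-!
# Simple groups of order 175560: the centraliser of an involution is not solvable
-/

set_option autoImplicit false
set_option linter.unusedSectionVars false
set_option linter.style.haveILetI false

namespace Cfsg.Agent.Lib.JankoUnique.OrderHyp

open Subgroup InvertedBound

universe u

/-- A normal subgroup of odd squarefree order with a fixed-point-free four-group having equal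
fixed-point orders is trivial. -/
theorem eq_bot_of_four {C : Type u} [Group C] [Finite C] (O : Subgroup C) [O.Normal]
    (hodd : Odd (Nat.card O)) (hd : Nat.card O ∣ 21945) (e f : C) (he : e * e = 1) (hf : f * f = 1)
    (hef : e * f = f * e) (free : ∀ x ∈ O, e * x = x * e → f * x = x * f → x = 1)
    (h1 : {x : C | x ∈ O ∧ e * x = x * e}.ncard = {x : C | x ∈ O ∧ f * x = x * f}.ncard)
    (h2 : {x : C | x ∈ O ∧ e * x = x * e}.ncard = {x : C | x ∈ O ∧ e * f * x = x * (e * f)}.ncard) :
    O = ⊥ := by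
  let act : C → O →* O := fun a => (MulAut.conjNormal (H := O) a).toMonoidHom
  have hact : ∀ (a : C) (x : O), ((act a x : O) : C) = a * x * a⁻¹ := fun a x => rfl
  have hcard : ∀ a : C,
      Nat.card (fixedSub (act a)) = {x : C | x ∈ O ∧ a * x = x * a}.ncard := by
    intro a
    rw [← Nat.card_coe_set_eq]
    exact Nat.card_congr
      { toFun := fun x => ⟨((x : O) : C), (x : O).2, by
          have h := congrArg Subtype.val (mem_fixedSub.mp x.2)
          rw [hact] at h
          exact mul_inv_eq_iff_eq_mul.mp h⟩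
        invFun := fun x => ⟨⟨x.1, x.2.1⟩, mem_fixedSub.mpr (Subtype.ext (by
          rw [hact]; exact mul_inv_eq_iff_eq_mul.mpr x.2.2))⟩
        left_inv := fun x => rfl
        right_inv := fun x => rfl }
  have hinvol : ∀ a : C, a * a = 1 → ∀ x : O, act a (act a x) = x := fun a ha x => Subtype.ext (by
    rw [hact, hact, inv_eq_of_mul_eq_one_right ha]
    rw [show a * (a * (x : C) * a) * a = a * a * (x : C) * (a * a) by group, ha, one_mul, mul_one])
  have hcomm : ∀ x : O, act e (act f x) = act f (act e x) := fun x => Subtype.ext (by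
    simp only [hact]
    calc e * (f * (x : C) * f⁻¹) * e⁻¹ = e * f * x * (e * f)⁻¹ := by group
      _ = f * e * x * (f * e)⁻¹ := by rw [hef]
      _ = f * (e * x * e⁻¹) * f⁻¹ := by group)
  have hfree : ∀ x : O, act e x = x → act f x = x → x = 1 := fun x hx hy =>
    Subtype.ext (free x x.2 (mul_inv_eq_iff_eq_mul.mp (congrArg Subtype.val hx))
      (mul_inv_eq_iff_eq_mul.mp (congrArg Subtype.val hy)))
  have hA := JankoOrder.card_fixed_mul_inverted hodd (act e) (hinvol e he)
  rw [JankoOrder.card_inverted_four hodd (act e) (act f) (hinvol e he) (hinvol f hf) hcomm hfree] at hA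
  have hcomp : (act f).comp (act e) = act (e * f) := MonoidHom.ext fun x => Subtype.ext (by
    rw [hef]
    show f * (e * (x : C) * e⁻¹) * f⁻¹ = f * e * (x : C) * (f * e)⁻¹
    group)
  rw [hcomp, hcard, hcard, hcard, ← h1, ← h2] at hA
  set r := {x : C | x ∈ O ∧ e * x = x * e}.ncard with hr
  rw [← hA] at hd
  have hr1 : r = 1 := by
    have hle : r * (r * r) ≤ 21945 := Nat.le_of_dvd (by norm_num) hd
    have hr28 : r < 29 := by
      by_contra hge
      have : 29 * (29 * 29) ≤ r * (r * r) := by gcongr <;> omega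
      omega
    have key : ∀ k < 29, k * (k * k) ∣ 21945 → k = 1 := by decide +kernel
    exact key r hr28 hd
  rw [hr1] at hA
  exact eq_bot_of_card_eq O hA.symm

variable {G : Type u} [Group G] [Finite G] [IsSimpleGroup G]

/-- The eight elements of the Sylow subgroup. -/
theorem sylow_elems (h : Nat.card G = 175560) (S : Sylow 2 G) {t e f : G}
    (ht : t ∈ (S : Subgroup G)) (he : e ∈ (S : Subgroup G)) (hf : f ∈ (S : Subgroup G))
    (ht1 : t ≠ 1) (he1 : e ≠ 1) (het : e ≠ t) (hf1 : f ≠ 1) (hft : f ≠ t) (hfe : f ≠ e)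
    (hfte : f ≠ t * e) :
    ∀ x ∈ (S : Subgroup G), x = 1 ∨ x = t ∨ x = e ∨ x = t * e ∨ x = f ∨ x = t * f ∨ x = e * f ∨
      x = t * (e * f) := by
  classical
  have sq := sylow_sq h S
  have hc := sylow_comm h S
  have inv : ∀ a ∈ (S : Subgroup G), a⁻¹ = a := fun a ha => inv_eq_of_mul_eq_one_right (sq a ha)
  -- the map from three bits to the subgroup is injective
  let F : Fin 2 × Fin 2 × Fin 2 → (S : Subgroup G) := fun q =>
    ⟨t ^ (q.1 : ℕ) * (e ^ (q.2.1 : ℕ) * f ^ (q.2.2 : ℕ)),
      mul_mem (pow_mem ht _) (mul_mem (pow_mem he _) (pow_mem hf _))⟩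
  have hFinj : Function.Injective F := by
    rintro ⟨a, b, c⟩ ⟨a', b', c'⟩ hq
    have hq' := congrArg Subtype.val hq
    have hte := hc t ht e he
    have htf := hc t ht f hf
    have hef' := hc e he f hf
    have s1 := sq t ht
    have s2 := sq e he
    have s3 := sq f hf
    have e1 : t * e ≠ 1 := fun hh => het (by
      rw [eq_inv_of_mul_eq_one_right hh, inv t ht])
    have e2 : t * f ≠ 1 := fun hh => hft (by
      rw [eq_inv_of_mul_eq_one_right hh, inv t ht])
    have e3 : e * f ≠ 1 := fun hh => hfe (by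
      rw [eq_inv_of_mul_eq_one_right hh, inv e he])
    have e4 : t * (e * f) ≠ 1 := fun hh => hfte (by
      have h5 : e * f = t := by rw [eq_inv_of_mul_eq_one_right hh, inv t ht]
      rw [hte, ← h5, ← mul_assoc, s2, one_mul])
    -- reduce to the kernel
    have hdiff : t ^ ((a : ℕ) + a') * (e ^ ((b : ℕ) + b') * f ^ ((c : ℕ) + c')) = 1 := by
      simp only [F] at hq'
      calc t ^ ((a : ℕ) + a') * (e ^ ((b : ℕ) + b') * f ^ ((c : ℕ) + c'))
          = (t ^ (a : ℕ) * (e ^ (b : ℕ) * f ^ (c : ℕ))) * (t ^ (a' : ℕ) * (e ^ (b' : ℕ) * f ^ (c' : ℕ))) := by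
            have c1 : Commute (e ^ (b : ℕ) * f ^ (c : ℕ)) (t ^ (a' : ℕ)) :=
              ((show Commute e t from hte.symm).pow_pow _ _).mul_left ((show Commute f t from htf.symm).pow_pow _ _)
            have c2 : Commute (f ^ (c : ℕ)) (e ^ (b' : ℕ)) := (show Commute f e from hef'.symm).pow_pow _ _
            rw [c1.mul_mul_mul_comm, c2.mul_mul_mul_comm, ← pow_add, ← pow_add, ← pow_add]
        _ = _ := by
            rw [hq']
            exact sq _ (mul_mem (pow_mem ht _) (mul_mem (pow_mem he _) (pow_mem hf _)))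
    fin_cases a <;> fin_cases a' <;> fin_cases b <;> fin_cases b' <;> fin_cases c <;> fin_cases c' <;>
      first
        | rfl
        | (exfalso; revert hdiff; norm_num [pow_two, s1, s2, s3, e1, e2, e3, e4, ht1, he1, hf1])
  have hsurj : Function.Surjective F := by
    refine ((Nat.bijective_iff_injective_and_card F).mpr ⟨hFinj, ?_⟩).2
    rw [card_sylow_two h S]
    simp
  intro x hx
  obtain ⟨⟨a, b, c⟩, hF⟩ := hsurj ⟨x, hx⟩
  have hx' : t ^ (a : ℕ) * (e ^ (b : ℕ) * f ^ (c : ℕ)) = x := congrArg Subtype.val hF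
  fin_cases a <;> fin_cases b <;> fin_cases c <;> simp at hx' <;> simp [← hx']

/-- The centraliser of a nontrivial element of the Sylow subgroup in its normaliser. -/
theorem card_stab (h : Nat.card G = 175560) (S : Sylow 2 G) {v : G} (hv : v ∈ (S : Subgroup G))
    (hv1 : v ≠ 1) :
    7 * Nat.card ↥(normalizer ((S : Subgroup G) : Set G) ⊓ centralizer ({v} : Set G)) =
      Nat.card (normalizer ((S : Subgroup G) : Set G)) := by
  classical
  set N := normalizer ((S : Subgroup G) : Set G)
  set K := (centralizer ({v} : Set G)).subgroupOf N with hK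
  let U := {w : (S : Subgroup G) // w ≠ 1}
  let f : N ⧸ K → U := fun q => Quotient.liftOn' q
    (fun n => ⟨⟨(n : G) * v * (n : G)⁻¹, (mem_normalizer_iff.mp n.2 v).mp hv⟩,
      fun e => hv1 (conj_eq_one_iff.mp (congrArg Subtype.val e))⟩)
    (fun a b hab => by
      rw [QuotientGroup.leftRel_apply, hK, mem_subgroupOf, mem_centralizer_singleton_iff] at hab
      refine Subtype.ext (Subtype.ext ?_)
      show (a : G) * v * (a : G)⁻¹ = (b : G) * v * (b : G)⁻¹
      simp only [coe_mul, coe_inv] at hab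
      calc (a : G) * v * (a : G)⁻¹ = (a : G) * (v * ((a : G)⁻¹ * b)) * (b : G)⁻¹ := by group
        _ = (a : G) * ((a : G)⁻¹ * b * v) * (b : G)⁻¹ := by rw [hab]
        _ = (b : G) * v * (b : G)⁻¹ := by group)
  have hinj : Function.Injective f := by
    intro p q
    induction p using QuotientGroup.induction_on with | _ a =>
    induction q using QuotientGroup.induction_on with | _ b =>
    intro hpq
    have e : (a : G) * v * (a : G)⁻¹ = (b : G) * v * (b : G)⁻¹ :=
      congrArg (fun w : U => ((w.1 : (S : Subgroup G)) : G)) hpq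
    rw [QuotientGroup.eq, hK, mem_subgroupOf, mem_centralizer_singleton_iff]
    simp only [coe_mul, coe_inv]
    calc (a : G)⁻¹ * b * v = (a : G)⁻¹ * ((b : G) * v * (b : G)⁻¹) * b := by group
      _ = (a : G)⁻¹ * ((a : G) * v * (a : G)⁻¹) * b := by rw [e]
      _ = v * ((a : G)⁻¹ * b) := by group
  have hsurj : Function.Surjective f := by
    rintro ⟨⟨w, hw⟩, hw1⟩
    obtain ⟨n, hn, hnv⟩ := (sylow_normalizer h S).2.2 v hv hv1 w hw fun e => hw1 (Subtype.ext e)
    exact ⟨QuotientGroup.mk ⟨n, hn⟩, Subtype.ext (Subtype.ext hnv)⟩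
  have hU : Nat.card U = 7 := by
    rw [show U = {w : (S : Subgroup G) // w ∈ ({1}ᶜ : Set (S : Subgroup G))} from rfl]
    rw [Nat.card_coe_set_eq, Set.ncard_compl, card_sylow_two h S, Set.ncard_singleton]
  have h1 : K.index = 7 := by
    rw [← hU]; exact Nat.card_eq_of_bijective f ⟨hinj, hsurj⟩
  rw [← K.card_mul_index, h1, mul_comm]
  congr 1
  rw [inf_comm, hK]
  exact Nat.card_congr
    { toFun := fun x => ⟨⟨x.1, x.2.2⟩, mem_subgroupOf.mpr x.2.1⟩
      invFun := fun x => ⟨(x.1 : G), mem_subgroupOf.mp x.2, x.1.2⟩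
      left_inv := fun x => rfl
      right_inv := fun x => rfl }

/-- Conjugation preserves the number of odd elements commuting with two given ones. -/
theorem ncard_oddFix_conj (k a b : G) :
    {x : G | Odd (orderOf x) ∧ x * a = a * x ∧ x * b = b * x}.ncard =
      {x : G | Odd (orderOf x) ∧ x * (k * a * k⁻¹) = k * a * k⁻¹ * x ∧
        x * (k * b * k⁻¹) = k * b * k⁻¹ * x}.ncard := by
  rw [← Set.ncard_image_of_injective _ (MulAut.conj k).injective]
  congr 1
  ext x
  simp only [Set.mem_image, Set.mem_setOf_eq, MulAut.conj_apply]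
  constructor
  · rintro ⟨y, ⟨ho, ha, hb⟩, rfl⟩
    refine ⟨(Involution.orderOf_conj_eq k y).symm ▸ ho, ?_, ?_⟩
    · calc k * y * k⁻¹ * (k * a * k⁻¹) = k * (y * a) * k⁻¹ := by group
        _ = k * (a * y) * k⁻¹ := by rw [ha]
        _ = _ := by group
    · calc k * y * k⁻¹ * (k * b * k⁻¹) = k * (y * b) * k⁻¹ := by group
        _ = k * (b * y) * k⁻¹ := by rw [hb]
        _ = _ := by group
  · rintro ⟨ho, ha, hb⟩
    refine ⟨k⁻¹ * x * k, ⟨?_, ?_, ?_⟩, by group⟩
    · have := Involution.orderOf_conj_eq k⁻¹ x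
      rw [inv_inv] at this
      rwa [this]
    · calc k⁻¹ * x * k * a = k⁻¹ * (x * (k * a * k⁻¹)) * k := by group
        _ = k⁻¹ * (k * a * k⁻¹ * x) * k := by rw [ha]
        _ = _ := by group
    · calc k⁻¹ * x * k * b = k⁻¹ * (x * (k * b * k⁻¹)) * k := by group
        _ = k⁻¹ * (k * b * k⁻¹ * x) * k := by rw [hb]
        _ = _ := by group

theorem eq_one_of_odd_of_mem (h : Nat.card G = 175560) (S : Sylow 2 G) {x : G}
    (hx : x ∈ (S : Subgroup G)) (ho : Odd (orderOf x)) : x = 1 := by
  have hd : orderOf x ∣ 2 := orderOf_dvd_of_pow_eq_one (by rw [pow_two]; exact sylow_sq h S x hx)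
  rcases (Nat.dvd_prime Nat.prime_two).mp hd with e | e
  · exact orderOf_eq_one_iff.mp e
  · rw [e] at ho; exact absurd ho (by decide)

theorem mem_sylow_of_commute_all (h : Nat.card G = 175560) (S : Sylow 2 G) {t e f x : G}
    (ht : t ∈ (S : Subgroup G)) (he : e ∈ (S : Subgroup G)) (hf : f ∈ (S : Subgroup G))
    (ht1 : t ≠ 1) (he1 : e ≠ 1) (het : e ≠ t) (hf1 : f ≠ 1) (hft : f ≠ t) (hfe : f ≠ e)
    (hfte : f ≠ t * e) (xt : Commute x t) (xe : Commute x e) (xf : Commute x f) :
    x ∈ (S : Subgroup G) := by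
  rw [← (sylow_normalizer h S).1]
  refine mem_centralizer_iff.mpr fun s hs => ?_
  rcases sylow_elems h S ht he hf ht1 he1 het hf1 hft hfe hfte s hs with
    rfl | rfl | rfl | rfl | rfl | rfl | rfl | rfl
  exacts [(Commute.one_right x).eq.symm, xt.eq.symm, xe.eq.symm, (xt.mul_right xe).eq.symm,
    xf.eq.symm, (xt.mul_right xf).eq.symm, (xe.mul_right xf).eq.symm,
    (xt.mul_right (xe.mul_right xf)).eq.symm]

theorem exists_sylow_mem {t : G} (ht : orderOf t = 2) : ∃ S : Sylow 2 G, t ∈ (S : Subgroup G) := by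
  haveI : Fact (Nat.Prime 2) := ⟨Nat.prime_two⟩
  obtain ⟨S, hS⟩ := (IsPGroup.of_card (G := zpowers t) (n := 1)
    (by rw [Nat.card_zpowers, ht, pow_one])).exists_le_sylow (G := G)
  exact ⟨S, hS (mem_zpowers t)⟩

theorem sylow_le_centralizer (h : Nat.card G = 175560) (S : Sylow 2 G) {t : G}
    (ht : t ∈ (S : Subgroup G)) : (S : Subgroup G) ≤ centralizer ({t} : Set G) := fun s hs =>
  mem_centralizer_singleton_iff.mpr (sylow_comm h S s hs t ht)

/-- If the automiser has order seven, every involution centraliser is a Sylow subgroup. -/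
theorem card_cent_of_fiftysix (h : Nat.card G = 175560) (S : Sylow 2 G)
    (hN : Nat.card (normalizer ((S : Subgroup G) : Set G)) = 56) {t : G}
    (ht : t ∈ (S : Subgroup G)) (ht1 : t ≠ 1) :
    Nat.card (centralizer ({t} : Set G)) = 8 := by
  classical
  haveI : Fact (Nat.Prime 2) := ⟨Nat.prime_two⟩
  have sq := sylow_sq h S
  have hc := sylow_comm h S
  set N := normalizer ((S : Subgroup G) : Set G) with hNdef
  have hstab : ∀ v ∈ (S : Subgroup G), v ≠ 1 → ∀ n ∈ N, n * v = v * n → n ∈ (S : Subgroup G) := by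
    intro v hv hv1 n hn hnv
    have hle : (S : Subgroup G) ≤ N ⊓ centralizer ({v} : Set G) :=
      le_inf le_normalizer (sylow_le_centralizer h S hv)
    have := card_stab h S hv hv1
    rw [← hNdef, hN] at this
    rw [eq_of_le_of_card_ge hle (by rw [card_sylow_two h S]; omega)]
    exact ⟨hn, mem_centralizer_singleton_iff.mpr hnv⟩
  haveI : ((S : Subgroup G).subgroupOf N).Normal := normal_in_normalizer
  have hidx : ((S : Subgroup G).subgroupOf N).index = 7 := by
    have := ((S : Subgroup G).subgroupOf N).card_mul_index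
    rw [Nat.card_congr (subgroupOfEquivOfLe le_normalizer).toEquiv, card_sylow_two h S, hN] at this
    omega
  have hseven : ∀ n ∈ N, n ^ 7 ∈ (S : Subgroup G) := fun n hn => by
    have := ((S : Subgroup G).subgroupOf N).pow_index_mem ⟨n, hn⟩
    rw [hidx] at this
    exact mem_subgroupOf.mp this
  have hsmall : ∀ n ∈ N, (n * n ∈ (S : Subgroup G) ∨ n * n * n ∈ (S : Subgroup G)) →
      n ∈ (S : Subgroup G) := by
    intro n hn hk
    rcases hk with hk | hk
    · rw [show n = n ^ 7 * ((n * n) ^ 3)⁻¹ by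
        rw [← pow_two, ← pow_mul, show n ^ 7 = n * n ^ (2 * 3) from pow_succ' n 6, mul_inv_cancel_right]]
      exact mul_mem (hseven n hn) (inv_mem (pow_mem hk 3))
    · rw [show n = n ^ 7 * ((n * n * n) ^ 2)⁻¹ by
        rw [show n * n * n = n ^ 3 by rw [pow_succ, pow_two], ← pow_mul,
          show n ^ 7 = n * n ^ (3 * 2) from pow_succ' n 6, mul_inv_cancel_right]]
      exact mul_mem (hseven n hn) (inv_mem (pow_mem hk 2))
  have conjmul : ∀ k a b : G, k * (a * b) * k⁻¹ = k * a * k⁻¹ * (k * b * k⁻¹) := fun k a b => by group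
  -- a second element of the Sylow subgroup
  obtain ⟨e, he, he1, het⟩ : ∃ e ∈ (S : Subgroup G), e ≠ 1 ∧ e ≠ t := by
    by_contra hall
    push Not at hall
    have hsub : ((S : Subgroup G) : Set G) ⊆ {1, t} := fun x hx => by
      by_cases hx1 : x = 1
      · exact Or.inl hx1
      · exact Or.inr (hall x hx hx1)
    have h2 := (Set.ncard_le_ncard hsub (Set.toFinite _)).trans (Set.ncard_insert_le _ _)
    rw [Set.ncard_singleton, show ((S : Subgroup G) : Set G).ncard = Nat.card (S : Subgroup G) from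
      (Nat.card_coe_set_eq _).symm, card_sylow_two h S] at h2
    omega
  have hte : t * e ≠ 1 := fun hh => het (by
    rw [eq_inv_of_mul_eq_one_right hh, inv_eq_of_mul_eq_one_right (sq t ht)])
  have hte_S : t * e ∈ (S : Subgroup G) := mul_mem ht he
  have hete : e ≠ t * e := fun hh => ht1 (mul_eq_right.mp hh.symm)
  have he_eq : e = t * (t * e) := by rw [← mul_assoc, sq t ht, one_mul]
  have hte_t : t * e * t = e := by
    rw [mul_assoc, hc e he t ht, ← he_eq]
  have hte_notT : t * e ≠ t := fun hh => he1 (mul_eq_left.mp hh)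
  obtain ⟨k, hk, hkt⟩ := (sylow_normalizer h S).2.2 e he he1 t ht ht1
  obtain ⟨l, hl, hlt⟩ := (sylow_normalizer h S).2.2 (t * e) hte_S hte t ht ht1
  set f := k * t * k⁻¹ with hf
  set g := l * t * l⁻¹ with hg
  have hfS : f ∈ (S : Subgroup G) := (mem_normalizer_iff.mp hk t).mp ht
  have hgS : g ∈ (S : Subgroup G) := (mem_normalizer_iff.mp hl t).mp ht
  have hf1 : f ≠ 1 := fun e' => ht1 (conj_eq_one_iff.mp e')
  have hg1 : g ≠ 1 := fun e' => ht1 (conj_eq_one_iff.mp e')
  have fixS : ∀ v ∈ (S : Subgroup G), ∀ n ∈ (S : Subgroup G), n * v * n⁻¹ = v := fun v hv n hn => by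
    rw [hc n hn v hv, mul_inv_cancel_right]
  have cyc2 : ∀ n ∈ N, ∀ a : G, n * t * n⁻¹ = a → n * a * n⁻¹ = t → n ∈ (S : Subgroup G) := by
    intro n hn a ha hb
    refine hsmall n hn (Or.inl (hstab t ht ht1 _ (mul_mem hn hn) ?_))
    refine mul_inv_eq_iff_eq_mul.mp ?_
    rw [show n * n * t * (n * n)⁻¹ = n * (n * t * n⁻¹) * n⁻¹ by group, ha, hb]
  have cyc3 : ∀ n ∈ N, ∀ a b : G, n * t * n⁻¹ = a → n * a * n⁻¹ = b → n * b * n⁻¹ = t →
      n ∈ (S : Subgroup G) := by
    intro n hn a b ha hb hc'
    refine hsmall n hn (Or.inr (hstab t ht ht1 _ (mul_mem (mul_mem hn hn) hn) ?_))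
    refine mul_inv_eq_iff_eq_mul.mp ?_
    rw [show n * n * n * t * (n * n * n)⁻¹ = n * (n * (n * t * n⁻¹) * n⁻¹) * n⁻¹ by group, ha, hb, hc']
  have hft : f ≠ t := fun e' => het (by
    have := hstab t ht ht1 k hk (mul_inv_eq_iff_eq_mul.mp e')
    rw [← fixS e he k this, hkt])
  have hgt : g ≠ t := fun e' => hte_notT (by
    have := hstab t ht ht1 l hl (mul_inv_eq_iff_eq_mul.mp e')
    rw [← fixS _ hte_S l this, hlt])
  have hfe : f ≠ e := fun e' => het (by
    rw [← fixS e he k (cyc2 k hk e e' hkt), hkt])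
  have hfte : f ≠ t * e := fun e' => het (by
    have h2 : k * (t * e) * k⁻¹ = e := by rw [conjmul, ← hf, hkt, e', hte_t]
    rw [← fixS e he k (cyc3 k hk (t * e) e e' h2 hkt), hkt])
  have hgte : g ≠ t * e := fun e' => hte_notT (by
    rw [← fixS _ hte_S l (cyc2 l hl (t * e) e' hlt), hlt])
  have hge : g ≠ e := fun e' => hte_notT (by
    have h2 : l * e * l⁻¹ = t * e := by
      conv_lhs => rw [he_eq]
      rw [conjmul, ← hg, hlt, e', hc e he t ht]
    rw [← fixS _ hte_S l (cyc3 l hl e (t * e) e' h2 hlt), hlt])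
  have hn : l⁻¹ * k ∈ N := mul_mem (inv_mem hl) hk
  have hne' : l⁻¹ * k * e * (l⁻¹ * k)⁻¹ = t * e := by
    rw [show l⁻¹ * k * e * (l⁻¹ * k)⁻¹ = l⁻¹ * (k * e * k⁻¹) * l by group, hkt]
    calc l⁻¹ * t * l = l⁻¹ * (l * (t * e) * l⁻¹) * l := by rw [hlt]
      _ = t * e := by group
  have hgf : g ≠ f := fun e' => hete (by
    have h2 : l⁻¹ * k * t * (l⁻¹ * k)⁻¹ = t := by
      rw [show l⁻¹ * k * t * (l⁻¹ * k)⁻¹ = l⁻¹ * (k * t * k⁻¹) * l by group, ← hf, ← e', hg]
      group
    rw [← hne', fixS e he _ (hstab t ht ht1 _ hn (mul_inv_eq_iff_eq_mul.mp h2))])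
  have hgtf : g ≠ t * f := fun e' => het (by
    have hf' : f = l * (t * e * t) * l⁻¹ := by
      rw [conjmul, hlt, ← hg, e', ← mul_assoc, sq t ht, one_mul]
    have h2 : l⁻¹ * k * t * (l⁻¹ * k)⁻¹ = e := by
      rw [show l⁻¹ * k * t * (l⁻¹ * k)⁻¹ = l⁻¹ * (k * t * k⁻¹) * l by group, ← hf, hf', hte_t]
      group
    have h3 : l⁻¹ * k * (t * e) * (l⁻¹ * k)⁻¹ = t := by
      rw [conjmul, h2, hne', ← mul_assoc, hc e he t ht, mul_assoc, sq e he, mul_one]
    rw [← h2, fixS t ht _ (cyc3 _ hn e (t * e) h2 hne' h3)])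
  -- the normal complement
  set C := centralizer ({t} : Set G) with hC
  have hSC : (S : Subgroup G) ≤ C := sylow_le_centralizer h S ht
  let SC : Sylow 2 C := S.subtype hSC
  have hSCmem : ∀ x : C, x ∈ (SC : Subgroup C) ↔ (x : G) ∈ (S : Subgroup G) := fun x => by
    rw [show (SC : Subgroup C) = (S : Subgroup G).subgroupOf C from Sylow.coe_subtype S hSC, mem_subgroupOf]
  have hburn : normalizer ((SC : Subgroup C) : Set C) ≤ centralizer ((SC : Subgroup C) : Set C) := by
    intro c hc'
    have hcN : (c : G) ∈ N := by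
      rw [hNdef, mem_normalizer_iff]
      intro x
      rw [mem_normalizer_iff] at hc'
      constructor
      · intro hx
        exact (hSCmem _).mp ((hc' ⟨x, hSC hx⟩).mp ((hSCmem _).mpr hx))
      · intro hx
        have hxC : x ∈ C := by
          rw [show x = (c : G)⁻¹ * ((c : G) * x * (c : G)⁻¹) * c by group]
          exact mul_mem (mul_mem (inv_mem c.2) (hSC hx)) c.2
        exact (hSCmem _).mp ((hc' ⟨x, hxC⟩).mpr ((hSCmem _).mpr hx))
    have hcS := hstab t ht ht1 _ hcN (mem_centralizer_singleton_iff.mp c.2)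
    exact mem_centralizer_iff.mpr fun x hx => Subtype.ext (hc _ ((hSCmem x).mp hx) _ hcS)
  set O := (MonoidHom.transferSylow SC hburn).ker with hO
  have hcompl : IsComplement' O (SC : Subgroup C) := MonoidHom.ker_transferSylow_isComplement' SC hburn
  have hSC8 : Nat.card (SC : Subgroup C) = 8 := by
    rw [show (SC : Subgroup C) = (S : Subgroup G).subgroupOf C from Sylow.coe_subtype S hSC,
      Nat.card_congr (subgroupOfEquivOfLe hSC).toEquiv, card_sylow_two h S]
  have hOC : Nat.card O * 8 = Nat.card C := by rw [← hSC8]; exact hcompl.card_mul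
  have hd : Nat.card O ∣ 21945 := Nat.dvd_of_mul_dvd_mul_right (by norm_num : 0 < 8) (by
    rw [hOC, show 21945 * 8 = Nat.card G by rw [h]]; exact card_subgroup_dvd_card C)
  have hodd : Odd (Nat.card O) := Odd.of_dvd_nat (by decide) hd
  have hOmem : ∀ x : C, x ∈ O ↔ Odd (orderOf (x : G)) := by
    intro x
    refine ⟨fun hx => ?_, fun hx => ?_⟩
    · rw [Subgroup.orderOf_coe]
      exact hodd.of_dvd_nat (Subgroup.orderOf_dvd_natCard O hx)
    · rw [hO, MonoidHom.mem_ker]
      set w := MonoidHom.transferSylow SC hburn x with hw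
      have h1 : orderOf ((w : C) : G) ∣ orderOf (x : G) := by
        rw [Subgroup.orderOf_coe, Subgroup.orderOf_coe, Subgroup.orderOf_coe]
        exact orderOf_map_dvd _ x
      refine Subtype.ext (Subtype.ext ?_)
      exact eq_one_of_odd_of_mem h S ((hSCmem _).mp w.2) (hx.of_dvd_nat h1)
  let eC : C := ⟨e, hSC he⟩
  let fC : C := ⟨f, hSC hfS⟩
  have hcount : ∀ a : C, {x : C | x ∈ O ∧ a * x = x * a}.ncard =
      {x : G | Odd (orderOf x) ∧ x * t = t * x ∧ x * (a : G) = (a : G) * x}.ncard := by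
    intro a
    rw [← Set.ncard_image_of_injective _ (Subtype.val_injective (p := fun x : G => x ∈ C))]
    congr 1
    ext x
    simp only [Set.mem_image, Set.mem_setOf_eq]
    constructor
    · rintro ⟨y, ⟨hy, hya⟩, rfl⟩
      exact ⟨(hOmem y).mp hy, mem_centralizer_singleton_iff.mp y.2, (congrArg Subtype.val hya).symm⟩
    · rintro ⟨hx, hxt, hxa⟩
      exact ⟨⟨x, mem_centralizer_singleton_iff.mpr hxt⟩, ⟨(hOmem _).mpr hx, Subtype.ext hxa.symm⟩, rfl⟩
  have hbot : O = ⊥ := by
    refine eq_bot_of_four O hodd hd eC fC (Subtype.ext (sq e he)) (Subtype.ext (sq f hfS))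
      (Subtype.ext (hc e he f hfS)) (fun x hx hxe hxf => ?_) ?_ ?_
    · refine Subtype.ext (eq_one_of_odd_of_mem h S ?_ ((hOmem x).mp hx))
      exact mem_sylow_of_commute_all h S ht he hfS ht1 he1 het hf1 hft hfe hfte
        (mem_centralizer_singleton_iff.mp x.2) (congrArg Subtype.val hxe).symm
        (congrArg Subtype.val hxf).symm
    · rw [hcount, hcount]
      show {x : G | Odd (orderOf x) ∧ x * t = t * x ∧ x * e = e * x}.ncard = _
      rw [ncard_oddFix_conj k t e, hkt, ← hf]
      exact congrArg Set.ncard (Set.ext fun x => and_congr_right fun _ => and_comm)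
    · rw [hcount, hcount]
      show {x : G | Odd (orderOf x) ∧ x * t = t * x ∧ x * e = e * x}.ncard =
        {x : G | Odd (orderOf x) ∧ x * t = t * x ∧ x * (e * f) = e * f * x}.ncard
      have hswap : ∀ a b x : G, Commute x t → (b = a ∨ b = t * a) → (Commute x a ↔ Commute x b) := by
        intro a b x hxt hb
        rcases hb with rfl | rfl
        · rfl
        · refine ⟨fun hxa => hxt.mul_right hxa, fun hxa => ?_⟩
          have := hxt.inv_right.mul_right hxa
          rwa [inv_mul_cancel_left] at this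
      have e1 : {x : G | Odd (orderOf x) ∧ x * t = t * x ∧ x * e = e * x}.ncard =
          {x : G | Odd (orderOf x) ∧ x * t = t * x ∧ x * (t * e) = t * e * x}.ncard :=
        congrArg Set.ncard (Set.ext fun x => and_congr_right fun _ => and_congr_right fun hxt =>
          hswap e (t * e) x hxt (Or.inr rfl))
      rw [e1, ncard_oddFix_conj l t (t * e), hlt, ← hg]
      refine congrArg Set.ncard (Set.ext fun x => and_congr_right fun _ => and_comm.trans ?_)
      refine and_congr_right fun hxt => ?_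
      rcases sylow_elems h S ht he hfS ht1 he1 het hf1 hft hfe hfte g hgS with
        e' | e' | e' | e' | e' | e' | e' | e'
      exacts [absurd e' hg1, absurd e' hgt, absurd e' hge, absurd e' hgte, absurd e' hgf, absurd e' hgtf,
        by rw [e'], (hswap (e * f) g x hxt (Or.inr e')).symm]
  rw [← hOC, hbot, card_bot, one_mul]

/-- The automiser has order 21. -/
theorem card_normalizer_sylow (h : Nat.card G = 175560) (S : Sylow 2 G) :
    Nat.card (normalizer ((S : Subgroup G) : Set G)) = 168 := by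
  classical
  haveI := Fintype.ofFinite G
  refine (sylow_normalizer h S).2.1.resolve_left fun hN => ?_
  haveI : Nontrivial (S : Subgroup G) :=
    Finite.one_lt_card_iff_nontrivial.1 (by rw [card_sylow_two h S]; norm_num)
  obtain ⟨⟨u, hu⟩, hu1'⟩ := exists_ne (1 : (S : Subgroup G))
  have hu1 : u ≠ 1 := fun e => hu1' (Subtype.ext e)
  have sq := sylow_sq h S
  have hc := sylow_comm h S
  have hu2 : orderOf u = 2 := Involution.orderOf_eq_two (sq u hu) hu1
  have hC8 := card_cent_of_fiftysix h S hN hu hu1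
  have hn : Nat.card {y : G // IsConj u y} = 21945 := by
    have := Involution.card_isConj_mul_card_centralizer u
    rw [hC8, h] at this
    omega
  set W : Finset G := Finset.univ.filter fun v => IsConj u v ∧ v * u ≠ u * v with hW
  set A : Finset G := Finset.univ.filter fun v => IsConj u v ∧ v * u = u * v with hA
  have hsum : A.card + W.card = 21945 := by
    rw [← hn, Nat.card_eq_fintype_card, Fintype.card_subtype]
    have := Finset.card_filter_add_card_filter_not (s := Finset.univ.filter fun v : G => IsConj u v)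
      (fun v => v * u = u * v)
    rw [Finset.filter_filter, Finset.filter_filter] at this
    exact this
  have hA7 : A.card = 7 := by
    have hAeq : A = (Finset.univ.filter fun v : G => v ∈ (S : Subgroup G)).erase 1 := by
      ext v
      simp only [hA, Finset.mem_filter, Finset.mem_univ, true_and, Finset.mem_erase]
      constructor
      · rintro ⟨hv, hvu⟩
        refine ⟨fun e => hu1 ?_, ?_⟩
        · subst e
          exact isConj_one_left.mp hv
        · have heq : (S : Subgroup G) = centralizer ({u} : Set G) :=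
            eq_of_le_of_card_ge (sylow_le_centralizer h S hu) (by rw [card_sylow_two h S, hC8])
          rw [heq]; exact mem_centralizer_singleton_iff.mpr hvu
      · rintro ⟨hv1, hv⟩
        exact ⟨isConj_involutions h hu2 (Involution.orderOf_eq_two (sq v hv) hv1), hc v hv u hu⟩
    rw [hAeq, Finset.card_erase_of_mem (by simp [one_mem]), ← Fintype.card_subtype,
      ← Nat.card_eq_fintype_card]
    exact congrArg (· - 1) (card_sylow_two h S)
  -- the Sylow subgroup acts freely on the involutions not commuting with `u`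
  have hfree : ∀ v ∈ W, ∀ s ∈ (S : Subgroup G), s * v = v * s → s = 1 := by
    intro v hv s hs hsv
    simp only [hW, Finset.mem_filter, Finset.mem_univ, true_and] at hv
    by_contra hs1
    refine hv.2 ?_
    have heq : (S : Subgroup G) = centralizer ({s} : Set G) :=
      eq_of_le_of_card_ge (sylow_le_centralizer h S hs)
        (by rw [card_sylow_two h S, card_cent_of_fiftysix h S hN hs hs1])
    exact hc v (heq ▸ mem_centralizer_singleton_iff.mpr hsv.symm) u hu
  let orb : G → Finset G := fun v => Finset.univ.image fun s : (S : Subgroup G) => (s : G) * v * (s : G)⁻¹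
  have horb : ∀ v w, w ∈ orb v ↔ ∃ s ∈ (S : Subgroup G), s * v * s⁻¹ = w := fun v w => by
    simp [orb]
  have hcard8 : ∀ v ∈ W, (orb v).card = 8 := by
    intro v hv
    rw [Finset.card_image_of_injective _ fun a b hab => ?_, Finset.card_univ, ← Nat.card_eq_fintype_card]
    · exact card_sylow_two h S
    · have hab' : (a : G) * v * (a : G)⁻¹ = (b : G) * v * (b : G)⁻¹ := hab
      have e := hfree v hv ((b : G)⁻¹ * a) (mul_mem (inv_mem b.2) a.2) (by
        calc (b : G)⁻¹ * a * v = (b : G)⁻¹ * ((a : G) * v * (a : G)⁻¹) * a := by group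
          _ = (b : G)⁻¹ * ((b : G) * v * (b : G)⁻¹) * a := by rw [hab']
          _ = v * ((b : G)⁻¹ * a) := by group)
      exact Subtype.ext (inv_mul_eq_one.mp e).symm
  have hfib : ∀ v ∈ W, W.filter (fun w => orb w = orb v) = orb v := by
    intro v hv
    ext w
    simp only [Finset.mem_filter]
    constructor
    · rintro ⟨-, e⟩
      rw [← e]; exact (horb w w).mpr ⟨1, one_mem _, by group⟩
    · intro hw
      obtain ⟨s, hs, rfl⟩ := (horb v w).mp hw
      refine ⟨?_, ?_⟩
      · simp only [hW, Finset.mem_filter, Finset.mem_univ, true_and] at hv ⊢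
        refine ⟨hv.1.trans (isConj_iff.mpr ⟨s, rfl⟩), fun e => hv.2 ?_⟩
        have hsu := hc s hs u hu
        calc v * u = s⁻¹ * (s * v * s⁻¹ * (s * u * s⁻¹)) * s := by group
          _ = s⁻¹ * (s * v * s⁻¹ * u) * s := by rw [mul_inv_eq_iff_eq_mul.mpr hsu]
          _ = s⁻¹ * (u * (s * v * s⁻¹)) * s := by rw [e]
          _ = s⁻¹ * ((s * u * s⁻¹) * (s * v * s⁻¹)) * s := by rw [mul_inv_eq_iff_eq_mul.mpr hsu]
          _ = u * v := by group
      · ext z
        rw [horb, horb]
        constructor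
        · rintro ⟨r, hr, rfl⟩
          exact ⟨r * s, mul_mem hr hs, by group⟩
        · rintro ⟨r, hr, rfl⟩
          exact ⟨r * s⁻¹, mul_mem hr (inv_mem hs), by group⟩
  have h8W : W.card = (W.image orb).card * 8 := by
    rw [Finset.card_eq_sum_card_image orb W, ← smul_eq_mul, ← Finset.sum_const]
    refine Finset.sum_congr rfl fun o ho => ?_
    obtain ⟨v, hv, rfl⟩ := Finset.mem_image.mp ho
    rw [hfib v hv, hcard8 v hv]
  omega

/-- The facts about an involution. -/
structure CentFacts (t : G) : Prop where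
  exists_sylow : ∃ S : Sylow 2 G, t ∈ (S : Subgroup G) ∧
    ∃ n ∈ normalizer ((S : Subgroup G) : Set G), orderOf n = 3 ∧ n * t = t * n ∧
      ∀ a ∈ (S : Subgroup G), a ≠ 1 → a ≠ t → n * a * n⁻¹ ≠ a ∧ n * a * n⁻¹ ≠ t * a
  core_bot : ∀ O : Subgroup (centralizer ({t} : Set G)), O.Normal → Odd (Nat.card O) → O = ⊥
  not_solvable : ¬ Group.IsSolvable (centralizer ({t} : Set G))

theorem exists_three (h : Nat.card G = 175560) (S : Sylow 2 G) {t : G} (ht : t ∈ (S : Subgroup G))
    (ht1 : t ≠ 1) :
    ∃ n ∈ normalizer ((S : Subgroup G) : Set G), orderOf n = 3 ∧ n * t = t * n ∧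
      ∀ a ∈ (S : Subgroup G), a ≠ 1 → a ≠ t → n * a * n⁻¹ ≠ a ∧ n * a * n⁻¹ ≠ t * a := by
  haveI : Fact (Nat.Prime 3) := ⟨Nat.prime_three⟩
  have hcs := card_stab h S ht ht1
  rw [card_normalizer_sylow h S] at hcs
  obtain ⟨⟨n, hn, hnt⟩, hn3⟩ := exists_prime_orderOf_dvd_card'
    (G := ↥(normalizer ((S : Subgroup G) : Set G) ⊓ centralizer ({t} : Set G))) 3 ⟨8, by omega⟩
  replace hn3 : orderOf n = 3 := (Subgroup.orderOf_coe (⟨n, hn, hnt⟩ :
    ↥(normalizer ((S : Subgroup G) : Set G) ⊓ centralizer ({t} : Set G)))).trans hn3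
  have hnt' : n * t = t * n := mem_centralizer_singleton_iff.mp hnt
  have h2 : ∀ x : (S : Subgroup G), x ^ 2 = 1 := fun x => Subtype.ext (by
    rw [pow_two]; exact sylow_sq h S x x.2)
  have hfix : ∀ m : G, m ∈ normalizer ((S : Subgroup G) : Set G) → orderOf m = 3 → m * t = t * m →
      ∀ a ∈ (S : Subgroup G), a ≠ 1 → a ≠ t → m * a * m⁻¹ ≠ a := by
    intro m hm hm3 hmt a ha ha1 hat he
    let φ := (S : Subgroup G).normalizerMonoidHom
    have hφ : φ ⟨m, hm⟩ ≠ 1 := fun e => by
      rw [← MonoidHom.mem_ker, normalizerMonoidHom_ker, mem_subgroupOf, (sylow_normalizer h S).1] at e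
      have hd := Subgroup.orderOf_dvd_natCard _ e
      rw [hm3, card_sylow_two h S] at hd
      norm_num at hd
    have hodd : Odd (orderOf (φ ⟨m, hm⟩)) := by
      refine Odd.of_dvd_nat (n := 3) (by decide) ?_
      rw [← hm3, ← Subgroup.orderOf_mk m hm]
      exact orderOf_map_dvd _ _
    rcases EightInvolution.fixed_eq (card_sylow_two h S) h2 hodd hφ
      (v := (⟨t, ht⟩ : (S : Subgroup G))) (x := ⟨a, ha⟩) (fun e => ht1 (congrArg Subtype.val e))
      (Subtype.ext (mul_inv_eq_iff_eq_mul.mpr hmt)) (Subtype.ext he) with e | e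
    · exact ha1 (congrArg Subtype.val e)
    · exact hat (congrArg Subtype.val e)
  refine ⟨n, hn, hn3, hnt', fun a ha ha1 hat => ⟨hfix n hn hn3 hnt' a ha ha1 hat, fun he => ?_⟩⟩
  refine hfix (n * n) (mul_mem hn hn) ?_ ((show Commute n t from hnt').mul_left hnt').eq a ha ha1 hat ?_
  · rw [← pow_two, orderOf_pow' _ (by norm_num), hn3]
    norm_num
  · rw [show n * n * a * (n * n)⁻¹ = n * (n * a * n⁻¹) * n⁻¹ by group, he,
      show n * (t * a) * n⁻¹ = n * t * n⁻¹ * (n * a * n⁻¹) by group, he,
      mul_inv_eq_iff_eq_mul.mpr hnt', ← mul_assoc, sylow_sq h S t ht, one_mul]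

/-- Centralisers of conjugate elements are isomorphic. -/
theorem centralizer_equiv {u v : G} (huv : IsConj u v) :
    Nonempty (centralizer ({u} : Set G) ≃* centralizer ({v} : Set G)) := by
  obtain ⟨g, hg⟩ := isConj_iff.mp huv
  have heq : (centralizer ({u} : Set G)).map (MulAut.conj g).toMonoidHom = centralizer ({v} : Set G) := by
    ext x
    constructor
    · rintro ⟨y, hy, rfl⟩
      rw [SetLike.mem_coe, mem_centralizer_singleton_iff] at hy
      rw [mem_centralizer_singleton_iff, ← hg]
      show g * y * g⁻¹ * (g * u * g⁻¹) = g * u * g⁻¹ * (g * y * g⁻¹)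
      calc g * y * g⁻¹ * (g * u * g⁻¹) = g * (y * u) * g⁻¹ := by group
        _ = g * (u * y) * g⁻¹ := by rw [hy]
        _ = _ := by group
    · intro hx
      rw [mem_centralizer_singleton_iff, ← hg] at hx
      refine ⟨g⁻¹ * x * g, mem_centralizer_singleton_iff.mpr ?_, ?_⟩
      · calc g⁻¹ * x * g * u = g⁻¹ * (x * (g * u * g⁻¹)) * g := by group
          _ = g⁻¹ * (g * u * g⁻¹ * x) * g := by rw [hx]
          _ = u * (g⁻¹ * x * g) := by group
      · show g * (g⁻¹ * x * g) * g⁻¹ = x
        group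
  exact ⟨((centralizer ({u} : Set G)).equivMapOfInjective _ (MulAut.conj g).injective).trans
    (MulEquiv.subgroupCongr heq)⟩

/-- The centraliser of an involution: no odd core, not solvable. -/
theorem centFacts (h : Nat.card G = 175560) {t : G} (ht : orderOf t = 2) : CentFacts t := by
  classical
  obtain ⟨S, htS⟩ := exists_sylow_mem ht
  have ht1 : t ≠ 1 := Involution.ne_one ht
  obtain ⟨n, hnN, hn3, hnt, hmove⟩ := exists_three h S htS ht1
  have sq := sylow_sq h S
  have hc := sylow_comm h S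
  refine ⟨⟨S, htS, n, hnN, hn3, hnt, hmove⟩, ?_, ?_⟩
  · set C := centralizer ({t} : Set G)
    intro O hO hodd
    have hSC : (S : Subgroup G) ≤ C := sylow_le_centralizer h S htS
    have hnC : n ∈ C := mem_centralizer_singleton_iff.mpr hnt
    obtain ⟨e, he, he1, het⟩ : ∃ e ∈ (S : Subgroup G), e ≠ 1 ∧ e ≠ t := by
      by_contra hall
      push Not at hall
      have hsub : ((S : Subgroup G) : Set G) ⊆ {1, t} := fun x hx => by
        by_cases hx1 : x = 1
        · exact Or.inl hx1
        · exact Or.inr (hall x hx hx1)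
      have h2 := (Set.ncard_le_ncard hsub (Set.toFinite _)).trans (Set.ncard_insert_le _ _)
      rw [Set.ncard_singleton, show ((S : Subgroup G) : Set G).ncard = Nat.card (S : Subgroup G) from
        (Nat.card_coe_set_eq _).symm, card_sylow_two h S] at h2
      omega
    set f := n * e * n⁻¹ with hf
    have hfS : f ∈ (S : Subgroup G) := (mem_normalizer_iff.mp hnN e).mp he
    obtain ⟨hfe, hfte⟩ := hmove e he he1 het
    rw [← hf] at hfe hfte
    have hntc : n * t * n⁻¹ = t := mul_inv_eq_iff_eq_mul.mpr hnt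
    have hf1 : f ≠ 1 := fun e' => he1 (conj_eq_one_iff.mp e')
    have hft : f ≠ t := fun e' => het (by
      apply mul_left_cancel (a := n)
      apply mul_right_cancel (b := n⁻¹)
      rw [← hf, e', hntc])
    set g := n * f * n⁻¹ with hg
    have hgS : g ∈ (S : Subgroup G) := (mem_normalizer_iff.mp hnN f).mp hfS
    have hg1 : g ≠ 1 := fun e' => hf1 (conj_eq_one_iff.mp e')
    have hgt : g ≠ t := fun e' => hft (by
      apply mul_left_cancel (a := n)
      apply mul_right_cancel (b := n⁻¹)
      rw [← hg, e', hntc])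
    obtain ⟨hgf, hgtf⟩ := hmove f hfS hf1 hft
    rw [← hg] at hgf hgtf
    have hn3' : n * n * n = 1 := by
      have e' := pow_orderOf_eq_one n
      rw [hn3, pow_succ, pow_two] at e'
      exact e'
    have hng : n * g * n⁻¹ = e := by
      rw [hg, hf, show n * (n * (n * e * n⁻¹) * n⁻¹) * n⁻¹ = n * n * n * e * (n * n * n)⁻¹ by group,
        hn3']
      group
    have hge : g ≠ e := fun e' => hfe (by rw [hf, ← e', hng, e'])
    have hgte : g ≠ t * e := fun e' => hgf (by
      have h2 : n * g * n⁻¹ = t * f := by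
        rw [e', show n * (t * e) * n⁻¹ = n * t * n⁻¹ * (n * e * n⁻¹) by group, hntc, ← hf]
      rw [hng] at h2
      have h3 : f = t * e := by rw [h2, ← mul_assoc, sq t htS, one_mul]
      exact absurd h3 hfte)
    refine eq_bot_of_four O hodd ?_ (⟨e, hSC he⟩ : C) ⟨f, hSC hfS⟩ (Subtype.ext (sq e he))
      (Subtype.ext (sq f hfS)) (Subtype.ext (hc e he f hfS)) (fun x hx hxe hxf => ?_) ?_ ?_
    · refine (Nat.Coprime.dvd_of_dvd_mul_left (k := Nat.card O) (n := 21945) (m := 8) ?_ ?_)
      · exact Nat.Coprime.pow_right 3 (Nat.coprime_two_right.mpr hodd)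
      · rw [show 8 * 21945 = Nat.card G by rw [h]]
        exact (card_subgroup_dvd_card O).trans (card_subgroup_dvd_card C)
    · refine Subtype.ext (eq_one_of_odd_of_mem h S ?_ ?_)
      · exact mem_sylow_of_commute_all h S htS he hfS ht1 he1 het hf1 hft hfe hfte
          (mem_centralizer_singleton_iff.mp x.2) (congrArg Subtype.val hxe).symm
          (congrArg Subtype.val hxf).symm
      · rw [Subgroup.orderOf_coe]
        exact hodd.of_dvd_nat (Subgroup.orderOf_dvd_natCard O hx)
    all_goals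
      have conj : ∀ a : C, {x : C | x ∈ O ∧ a * x = x * a}.ncard =
          {x : C | x ∈ O ∧ (⟨n, hnC⟩ * a * ⟨n, hnC⟩⁻¹) * x = x * (⟨n, hnC⟩ * a * ⟨n, hnC⟩⁻¹)}.ncard := by
        intro a
        rw [← Set.ncard_image_of_injective _ (MulAut.conj (⟨n, hnC⟩ : C)).injective]
        congr 1
        ext x
        simp only [Set.mem_image, Set.mem_setOf_eq, MulAut.conj_apply]
        constructor
        · rintro ⟨y, ⟨hy, hay⟩, rfl⟩
          refine ⟨hO.conj_mem y hy _, ?_⟩
          set m : C := ⟨n, hnC⟩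
          calc m * a * m⁻¹ * (m * y * m⁻¹) = m * (a * y) * m⁻¹ := by group
            _ = m * (y * a) * m⁻¹ := by rw [hay]
            _ = _ := by group
        · rintro ⟨hx, hax⟩
          set m : C := ⟨n, hnC⟩
          refine ⟨m⁻¹ * x * m, ⟨by simpa using hO.conj_mem x hx m⁻¹, ?_⟩, by group⟩
          calc a * (m⁻¹ * x * m) = m⁻¹ * (m * a * m⁻¹ * x) * m := by group
            _ = m⁻¹ * (x * (m * a * m⁻¹)) * m := by rw [hax]
            _ = _ := by group
    · rw [conj]
      rfl
    · rw [conj, show (⟨n, hnC⟩ * ⟨e, hSC he⟩ * ⟨n, hnC⟩⁻¹ : C) = ⟨f, hSC hfS⟩ from rfl, conj,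
        show (⟨n, hnC⟩ * ⟨f, hSC hfS⟩ * ⟨n, hnC⟩⁻¹ : C) = ⟨g, hSC hgS⟩ from rfl]
      refine congrArg Set.ncard (Set.ext fun x => and_congr_right fun _ => ?_)
      have hxt : Commute (x : G) t := mem_centralizer_singleton_iff.mp x.2
      have hiff : ∀ (a : G) (ha : a ∈ C), ((⟨a, ha⟩ : C) * x = x * ⟨a, ha⟩) ↔ Commute (x : G) a :=
        fun a ha => ⟨fun e' => (congrArg Subtype.val e').symm, fun e' => Subtype.ext e'.symm⟩
      rw [hiff, show (⟨e, hSC he⟩ * ⟨f, hSC hfS⟩ : C) = ⟨e * f, mul_mem (hSC he) (hSC hfS)⟩ from rfl, hiff]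
      rcases sylow_elems h S htS he hfS ht1 he1 het hf1 hft hfe hfte g hgS with
        e' | e' | e' | e' | e' | e' | e' | e'
      exacts [absurd e' hg1, absurd e' hgt, absurd e' hge, absurd e' hgte, absurd e' hgf, absurd e' hgtf,
        by rw [e'], by
          rw [e']
          refine ⟨fun hxa => ?_, fun hxa => hxt.mul_right hxa⟩
          have := hxt.inv_right.mul_right hxa
          rwa [inv_mul_cancel_left] at this]
  · intro hsol
    have hS : Cfsg.IsElementaryAbelian 2 (S : Subgroup G) :=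
      ⟨⟨⟨fun a b => Subtype.ext (hc a a.2 b b.2)⟩⟩, fun a ha => by rw [pow_two]; exact sq a ha⟩
    have h7 := S3189.result (nonab h) S hS (card_sylow_two h S) fun v hv => by
      obtain ⟨φ⟩ := centralizer_equiv (isConj_involutions h ht hv)
      haveI := hsol
      exact Group.isSolvable_of_surjective (f := φ.toMonoidHom) φ.surjective
    have hcm := ((centralizer ((S : Subgroup G) : Set G)).subgroupOf
      (normalizer ((S : Subgroup G) : Set G))).card_mul_index
    rw [← Subgroup.relIndex, h7, card_normalizer_sylow h S,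
      Nat.card_congr (subgroupOfEquivOfLe (centralizer_le_normalizer _)).toEquiv,
      (sylow_normalizer h S).1, card_sylow_two h S] at hcm
    norm_num at hcm

end Cfsg.Agent.Lib.JankoUnique.OrderHyp
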