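import Cfsg.Agent.Lib.JankoUnique.OrderHyp.Basic
import Cfsg.Agent.Lib.TwoGroup.Recognition
import Cfsg.Agent.Lib.CharCount.Basic
import Cfsg.Agent.Lib.Chars.Integral
import Cfsg.Agent.Lib.Chars.Completeness
import Cfsg.Agent.Lib.Chars.PResidualDegree
import Cfsg.Agent.S3864
import Cfsg.Agent.S4481
import Cfsg.Agent.S4482
import Mathlib

/-!
# Simple groups of order 175560 have no dihedral Sylow 2-subgroup
-/

set_option autoImplicit false
set_option linter.unusedSectionVars false
set_option linter.style.haveILetI false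

namespace Cfsg.Agent.Lib.JankoUnique.OrderHyp

open Subgroup

universe u

variable {G : Type u} [Group G] [Finite G] [IsSimpleGroup G]

/-- Dihedral data inside a Sylow 2-subgroup. -/
structure D8 (S : Sylow 2 G) (σ τ : G) : Prop where
  hσ : σ ∈ (S : Subgroup G)
  hτ : τ ∈ (S : Subgroup G)
  oσ : orderOf σ = 4
  oτ : orderOf τ = 2
  rel : τ * σ * τ⁻¹ = σ⁻¹
  notMem : τ ∉ zpowers σ
  rest : ∀ g ∈ (S : Subgroup G), g ∈ zpowers σ ∨ τ * g ∈ zpowers σ

namespace D8

variable {S : Sylow 2 G} {σ τ : G} (D : D8 S σ τ)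
include D

theorem ττ : τ * τ = 1 := by rw [← pow_two, ← D.oτ, pow_orderOf_eq_one]

theorem σσ_ne : σ * σ ≠ 1 := fun h => by
  have h1 := orderOf_dvd_of_pow_eq_one (show σ ^ 2 = 1 by rw [pow_two, h])
  rw [D.oσ] at h1
  norm_num at h1

theorem four : σ * σ * (σ * σ) = 1 := by
  have h := pow_orderOf_eq_one σ
  rw [D.oσ] at h
  rw [← h]
  simp [pow_succ, mul_assoc]

theorem gen : closure ({σ, τ} : Set G) = (S : Subgroup G) := by
  refine le_antisymm ((closure_le _).mpr ?_) fun g hg => ?_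
  · rintro x (rfl | rfl)
    exacts [D.hσ, D.hτ]
  · have hz : ∀ w ∈ zpowers σ, w ∈ closure ({σ, τ} : Set G) := fun w hw =>
      zpowers_le.mpr (show σ ∈ closure ({σ, τ} : Set G) from Subgroup.subset_closure (Or.inl rfl)) hw
    rcases D.rest g hg with h | h
    · exact hz g h
    · have hτc : τ ∈ closure ({σ, τ} : Set G) := Subgroup.subset_closure (Or.inr rfl)
      rw [show g = τ * (τ * g) by rw [← mul_assoc, D.ττ, one_mul]]
      exact mul_mem hτc (hz _ h)

theorem conj_zpow_σ (i : ℤ) : τ * σ ^ i * τ⁻¹ = (σ ^ i)⁻¹ := by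
  rw [← conj_zpow, D.rel, inv_zpow]

theorem flip : D8 S σ (σ * τ) where
  hσ := D.hσ
  hτ := mul_mem D.hσ D.hτ
  oσ := D.oσ
  oτ := orderOf_eq_prime (by
      rw [pow_two, show σ * τ * (σ * τ) = σ * (τ * σ * τ⁻¹) * (τ * τ) by group, D.rel, D.ττ]
      group) fun h => D.notMem (by
      rw [show τ = σ⁻¹ by rw [eq_inv_of_mul_eq_one_right h]]
      exact inv_mem (mem_zpowers σ))
  rel := by
    rw [show σ * τ * σ * (σ * τ)⁻¹ = σ * (τ * σ * τ⁻¹) * σ⁻¹ by group, D.rel]
    group
  notMem := fun h => D.notMem (by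
    rw [show τ = σ⁻¹ * (σ * τ) by group]
    exact mul_mem (inv_mem (mem_zpowers σ)) h)
  rest := fun g hg => (D.rest g hg).imp_right fun h => by
    rw [mul_assoc]
    exact mul_mem (mem_zpowers σ) h

/-- An element of the Sylow subgroup commuting with `τ` is a product of `σ²` and `τ`. -/
theorem commute_cases {g : G} (hg : g ∈ (S : Subgroup G)) (hc : g * τ = τ * g) :
    g = 1 ∨ g = σ * σ ∨ g = τ ∨ g = τ * (σ * σ) := by
  have key : ∀ w ∈ zpowers σ, w * τ = τ * w → w = 1 ∨ w = σ * σ := by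
    intro w hw hwc
    obtain ⟨i, rfl⟩ := mem_zpowers_iff.mp hw
    have h := D.conj_zpow_σ i
    rw [← hwc, mul_inv_cancel_right] at h
    have h2 : σ ^ (2 * i) = 1 := by rw [two_mul, zpow_add]; exact mul_eq_one_iff_eq_inv.mpr h
    have h4 : (4 : ℤ) ∣ 2 * i := by
      have := orderOf_dvd_iff_zpow_eq_one.mpr h2
      rwa [D.oσ] at this
    have hmod : σ ^ i = σ ^ (i % 4) := by
      have := zpow_mod_orderOf σ i
      rw [D.oσ] at this
      exact_mod_cast this.symm
    have h2i : (2 : ℤ) ∣ i := by omega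
    rcases (show i % 4 = 0 ∨ i % 4 = 2 by omega) with h' | h'
    · exact Or.inl (by rw [hmod, h', zpow_zero])
    · exact Or.inr (by rw [hmod, h', zpow_two])
  rcases D.rest g hg with h | h
  · exact (key g h hc).imp_right Or.inl
  · rcases key _ h (by rw [mul_assoc, hc, ← mul_assoc]) with e | e
    · right; right; left
      rw [← mul_one τ, ← e, ← mul_assoc, D.ττ, one_mul]
    · right; right; right
      rw [← e, ← mul_assoc, D.ττ, one_mul]

theorem commute_sq : σ * σ * τ = τ * (σ * σ) := by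
  have h := D.conj_zpow_σ 2
  rw [zpow_two] at h
  have h4 : (σ * σ)⁻¹ = σ * σ := inv_eq_of_mul_eq_one_right D.four
  rw [h4] at h
  exact (mul_inv_eq_iff_eq_mul.mp h).symm

/-- The joint centraliser of two commuting involutions has order four times an odd number. -/
theorem pair_card (h : Nat.card G = 175560) {m : ℕ}
    (hm : Nat.card (centralizer ({σ * σ} : Set G)) = 8 * m) :
    ∃ a : ℕ, a ∣ m ∧ Nat.card (centralizer ({σ * σ, τ} : Set G)) = 4 * a ∧
      ∃ V : Subgroup G, Nat.card V = 4 ∧ V ≤ centralizer ({σ * σ, τ} : Set G) ∧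
        ∀ k ∈ centralizer ({σ * σ, τ} : Set G), ∀ v ∈ V, v * k = k * v := by
  haveI : Fact (Nat.Prime 2) := ⟨Nat.prime_two⟩
  have h8 := card_sylow_two h S
  set K := centralizer ({σ * σ, τ} : Set G) with hK
  have hmemK : ∀ g, g ∈ K ↔ g * (σ * σ) = σ * σ * g ∧ g * τ = τ * g := fun g => by
    rw [hK, mem_centralizer_iff]
    refine ⟨fun hg => ⟨(hg _ (Or.inl rfl)).symm, (hg _ (Or.inr rfl)).symm⟩, ?_⟩
    rintro ⟨h1, h2⟩ x (rfl | rfl)
    exacts [h1.symm, h2.symm]
  let V := (S : Subgroup G) ⊓ K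
  have hVmem : ∀ v ∈ V, v = 1 ∨ v = σ * σ ∨ v = τ ∨ v = τ * (σ * σ) := fun v hv =>
    D.commute_cases hv.1 ((hmemK v).mp hv.2).2
  have hJ : σ * σ ∈ V := ⟨mul_mem D.hσ D.hσ, (hmemK _).mpr ⟨rfl, D.commute_sq⟩⟩
  have hT : τ ∈ V := ⟨D.hτ, (hmemK _).mpr ⟨D.commute_sq.symm, rfl⟩⟩
  have hne : τ ≠ σ * σ := fun e => D.notMem (e ▸ mul_mem (mem_zpowers σ) (mem_zpowers σ))
  have hτ1 : τ ≠ 1 := fun e => by have := D.oτ; rw [e, orderOf_one] at this; norm_num at this
  have hV4 : Nat.card V = 4 := by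
    have h1 : Nat.card V ∣ 8 := h8 ▸ card_dvd_of_le inf_le_left
    have h2 : Nat.card V ≤ 4 := by
      rw [show Nat.card V = (V : Set G).ncard from Nat.card_coe_set_eq _]
      classical
      refine (Set.ncard_le_ncard (t := (↑({1, σ * σ, τ, τ * (σ * σ)} : Finset G) : Set G))
        (fun v hv => ?_) (Finset.finite_toSet _)).trans ?_
      · simp only [Finset.coe_insert, Finset.coe_singleton, Set.mem_insert_iff, Set.mem_singleton_iff]
        exact hVmem v hv
      · rw [Set.ncard_coe_finset]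
        exact Finset.card_le_four
    have h3 : 3 ≤ Nat.card V := by
      rw [show Nat.card V = (V : Set G).ncard from Nat.card_coe_set_eq _,
        ← (Set.ncard_eq_three.mpr ⟨1, σ * σ, τ, Ne.symm D.σσ_ne, hτ1.symm, hne.symm, rfl⟩ :
          ({1, σ * σ, τ} : Set G).ncard = 3)]
      refine Set.ncard_le_ncard ?_ (Set.toFinite _)
      rintro x (rfl | rfl | rfl)
      exacts [one_mem V, hJ, hT]
    interval_cases hc : Nat.card V <;> omega
  have h4 : 4 ∣ Nat.card K := hV4 ▸ card_dvd_of_le inf_le_right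
  have hcent : ∀ k ∈ K, ∀ v ∈ V, v * k = k * v := by
    intro k hk v hv
    obtain ⟨hk1, hk2⟩ := (hmemK k).mp hk
    rcases hVmem v hv with rfl | rfl | rfl | rfl
    · rw [one_mul, mul_one]
    · exact hk1.symm
    · exact hk2.symm
    · rw [mul_assoc, ← hk1, ← mul_assoc, ← hk2, mul_assoc]
  have hn8 : ¬ 8 ∣ Nat.card K := by
    intro h8K
    obtain ⟨R⟩ := (inferInstance : Nonempty (Sylow 2 K))
    have hR : Nat.card ((R : Subgroup K).map K.subtype) = 8 := by
      rw [card_map_of_injective K.subtype_injective]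
      have h1 : 2 ^ 3 ∣ Nat.card (R : Subgroup K) := R.pow_dvd_card_of_pow_dvd_card (by norm_num; exact h8K)
      have h2 : Nat.card (R : Subgroup K) ∣ Nat.card (S : Subgroup G) := by
        obtain ⟨n, hn⟩ := IsPGroup.iff_card.mp R.2
        rw [hn]
        exact S.pow_dvd_card_of_pow_dvd_card (hn ▸ (card_subgroup_dvd_card _).trans (card_subgroup_dvd_card _))
      rw [h8] at h2
      exact Nat.dvd_antisymm h2 (by simpa using h1)
    set R' := (R : Subgroup K).map K.subtype with hR'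
    have hRp : IsPGroup 2 R' := R.2.map _
    obtain ⟨T, hT'⟩ := hRp.exists_le_sylow (G := G)
    have hTeq : (T : Subgroup G) = R' := (eq_of_le_of_card_ge hT' (by rw [card_sylow_two h T, hR])).symm
    -- `V` lies in that Sylow subgroup, and is central there
    have hVT : ∀ v ∈ V, v ∈ (T : Subgroup G) := by
      intro v hv
      have hp : IsPGroup 2 (zpowers v) := IsPGroup.to_le S.2 (zpowers_le.mpr hv.1)
      have hN : zpowers v ≤ normalizer ((T : Subgroup G) : Set G) := by
        refine zpowers_le.mpr (centralizer_le_normalizer _ (mem_centralizer_iff.mpr fun r hr => ?_))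
        rw [hTeq] at hr
        obtain ⟨r', -, rfl⟩ := hr
        exact (hcent _ r'.2 v hv).symm
      have h1 : v ∈ zpowers v ⊓ normalizer ((T : Set G)) :=
        ⟨mem_zpowers v, hN (mem_zpowers v)⟩
      rw [IsPGroup.inf_normalizer_sylow hp T] at h1
      exact h1.2
    obtain ⟨g, hg⟩ := MulAction.exists_smul_eq G T S
    have hmap : ∀ v ∈ (T : Subgroup G), g * v * g⁻¹ ∈ (S : Subgroup G) := fun v hv => by
      rw [← hg, Sylow.coe_subgroup_smul]
      exact ⟨v, hv, rfl⟩
    have hsurj : ∀ s ∈ (S : Subgroup G), ∃ v ∈ (T : Subgroup G), g * v * g⁻¹ = s := fun s hs => by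
      rw [← hg, Sylow.coe_subgroup_smul] at hs
      exact hs
    -- the centre of the dihedral group has order two
    have hZ : ∀ v ∈ V, g * v * g⁻¹ = 1 ∨ g * v * g⁻¹ = σ * σ := by
      intro v hv
      have hc : ∀ s ∈ (S : Subgroup G), g * v * g⁻¹ * s = s * (g * v * g⁻¹) := by
        intro s hs
        obtain ⟨r, hr, rfl⟩ := hsurj s hs
        rw [hTeq] at hr
        obtain ⟨r', -, rfl⟩ := hr
        have := hcent _ r'.2 v hv
        calc g * v * g⁻¹ * (g * K.subtype r' * g⁻¹) = g * (v * (r' : G)) * g⁻¹ := by simp only [coe_subtype]; group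
          _ = g * ((r' : G) * v) * g⁻¹ := by rw [this]
          _ = _ := by simp only [coe_subtype]; group
      rcases D.commute_cases (hmap v (hVT v hv)) (hc τ D.hτ) with e | e | e | e
      · exact Or.inl e
      · exact Or.inr e
      · exfalso
        have := hc σ D.hσ
        rw [e] at this
        refine D.σσ_ne (mul_eq_one_iff_eq_inv.mpr ?_)
        rw [← D.rel, this, mul_assoc, mul_inv_cancel, mul_one]
      · exfalso
        have := hc σ D.hσ
        rw [e] at this
        refine D.σσ_ne (mul_eq_one_iff_eq_inv.mpr ?_)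
        rw [← D.rel]
        have h' : τ * σ = σ * τ := mul_right_cancel (b := σ * σ) (by
          calc τ * σ * (σ * σ) = τ * (σ * σ) * σ := by group
            _ = σ * (τ * (σ * σ)) := this
            _ = σ * τ * (σ * σ) := by group)
        rw [h', mul_assoc, mul_inv_cancel, mul_one]
    have e1 : g * (σ * σ) * g⁻¹ = σ * σ :=
      (hZ _ hJ).resolve_left fun e => D.σσ_ne (conj_eq_one_iff.mp e)
    have e2 : g * τ * g⁻¹ = σ * σ := (hZ _ hT).resolve_left fun e => hτ1 (conj_eq_one_iff.mp e)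
    exact hne (mul_left_cancel (mul_right_cancel (e2.trans e1.symm)))
  obtain ⟨a, ha⟩ := h4
  refine ⟨a, ?_, ha, V, hV4, inf_le_right, hcent⟩
  have hd : 4 * a ∣ 8 * m := by
    rw [← ha, ← hm]
    exact card_dvd_of_le (centralizer_le (Set.singleton_subset_iff.mpr (Or.inl rfl)))
  have hodd : ¬ 2 ∣ a := fun ⟨c, hc⟩ => hn8 ⟨c, by rw [ha, hc]; ring⟩
  have h2 : a ∣ 2 * m := Nat.dvd_of_mul_dvd_mul_left (by norm_num : 0 < 4)
    (by rwa [← mul_assoc])
  exact ((Nat.coprime_comm.mp ((Nat.Prime.coprime_iff_not_dvd Nat.prime_two).mpr hodd))).dvd_of_dvd_mul_left h2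

end D8

/-- The admissible odd parts. -/
def oddParts : List ℕ :=
  [1, 3, 5, 7, 11, 15, 19, 21, 33, 35, 55, 57, 77, 95, 105, 133, 165, 209, 231, 285, 385, 399, 627, 665,
    1045, 1155]

/-- The possible degrees. -/
def degrees : List ℕ := (List.range 420).filter fun x => 175560 % x = 0

theorem mem_oddParts {m : ℕ} (hm : m ∣ 21945) (hle : m ≤ 1155) : m ∈ oddParts := by
  rw [show (21945 : ℕ) = 3 * (5 * (7 * (11 * 19))) by norm_num] at hm
  obtain ⟨a, k₁, ha, hk₁, rfl⟩ := Nat.dvd_mul.mp hm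
  obtain ⟨b, k₂, hb, hk₂, rfl⟩ := Nat.dvd_mul.mp hk₁
  obtain ⟨c, k₃, hc, hk₃, rfl⟩ := Nat.dvd_mul.mp hk₂
  obtain ⟨d, f, hd, hf, rfl⟩ := Nat.dvd_mul.mp hk₃
  rcases (Nat.dvd_prime Nat.prime_three).mp ha with rfl | rfl <;>
    rcases (Nat.dvd_prime Nat.prime_five).mp hb with rfl | rfl <;>
    rcases (Nat.dvd_prime (by norm_num : Nat.Prime 7)).mp hc with rfl | rfl <;>
    rcases (Nat.dvd_prime (by norm_num : Nat.Prime 11)).mp hd with rfl | rfl <;>
    rcases (Nat.dvd_prime (by norm_num : Nat.Prime 19)).mp hf with rfl | rfl <;>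
    first | (norm_num [oddParts]; done) | omega

/-- Boolean form of the order formula. -/
def checkFormula : Bool :=
  oddParts.all fun m => (oddParts.filter fun a => m % a = 0).all fun a =>
    (oddParts.filter fun b => m % b = 0).all fun b => degrees.all fun x =>
      !(Nat.beq (21945 * (x - 1) ^ 2 * a ^ 2 * b ^ 2) (8 * m ^ 3 * x * (x + 1) * (a + b) ^ 2)) &&
      (!(Nat.beq (21945 * (x + 1) ^ 2 * a ^ 2 * b ^ 2) (8 * m ^ 3 * x * (x - 1) * (a + b) ^ 2)) ||
        (Nat.beq m 1045 && Nat.beq a 1045))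

theorem checkFormula_true : checkFormula = true := by decide +kernel

theorem charDegree_lt (h : Nat.card G = 175560) (χ : IrrCharacter G)
    (h1 : (χ : G → ℂ) ≠ fun _ => 1) : Cfsg.charDegree (χ : G → ℂ) < 420 := by
  classical
  haveI := Fintype.ofFinite G
  have h0 := Chars.sum_degree_sq (G := G)
  let one : IrrCharacter G := ⟨fun _ => 1, Chars.isIrrCharacter_one⟩
  have hd : ∀ ψ : IrrCharacter G, (ψ : G → ℂ) 1 ^ 2 = ((Cfsg.charDegree (ψ : G → ℂ) ^ 2 : ℕ) : ℂ) :=
    fun ψ => by rw [(Chars.charDegree_spec ψ).2]; push_cast; rfl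
  rw [Finset.sum_congr rfl fun ψ _ => hd ψ, ← Nat.cast_sum, Nat.cast_inj, h] at h0
  have hne : one ≠ χ := fun e => h1 (by rw [← e])
  have h2 : Cfsg.charDegree ((one : IrrCharacter G) : G → ℂ) ^ 2 + Cfsg.charDegree (χ : G → ℂ) ^ 2 ≤ 175560 := by
    rw [← h0, ← Finset.sum_pair (f := fun ψ : IrrCharacter G => Cfsg.charDegree (ψ : G → ℂ) ^ 2) hne]
    exact Finset.sum_le_univ_sum_of_nonneg (fun _ => Nat.zero_le _)
  by_contra hge
  have : 420 ^ 2 ≤ Cfsg.charDegree (χ : G → ℂ) ^ 2 := Nat.pow_le_pow_left (not_lt.mp hge) 2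
  omega

/-- No dihedral Sylow 2-subgroup. -/
theorem D8.elim (h : Nat.card G = 175560) {S : Sylow 2 G} {σ τ : G} (D : D8 S σ τ) : False := by
  classical
  haveI : Fact (Nat.Prime 2) := ⟨Nat.prime_two⟩
  have hiso : Nonempty (↥(S : Subgroup G) ≃* DihedralGroup (2 ^ (3 - 1))) :=
    TwoGroup.nonempty_mulEquiv_dihedral (D.oσ.trans (by norm_num)) D.ττ D.rel D.notMem _ D.hσ D.hτ D.rest
  have hone : ∀ v w : G, orderOf v = 2 → orderOf w = 2 → IsConj v w := by
    rcases S3864.result S 3 le_rfl hiso with ⟨h1, -⟩ | ⟨-, ⟨N, hN, h2⟩, -⟩ | ⟨-, P, N, hN, hNP⟩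
    · intro v w hv hw
      have hsub := (Nat.card_eq_one_iff_unique.mp h1).1
      exact ConjClasses.mk_eq_mk_iff_isConj.mp
        (congrArg Subtype.val (hsub.elim ⟨_, v, rfl, hv⟩ ⟨_, w, rfl, hw⟩))
    · rcases hN.eq_bot_or_eq_top with rfl | rfl
      · rw [index_bot, h] at h2; norm_num at h2
      · rw [index_top] at h2; norm_num at h2
    · exfalso
      rcases hN.eq_bot_or_eq_top with rfl | rfl
      · rw [isComplement'_bot_left] at hNP
        have := card_sylow_two h P
        rw [hNP, card_top, h] at this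
        norm_num at this
      · rw [isComplement'_top_left] at hNP
        have := card_sylow_two h P
        rw [hNP, card_bot] at this
        norm_num at this
  have oJ : orderOf (σ * σ) = 2 := orderOf_eq_prime (by rw [pow_two, D.four]) D.σσ_ne
  obtain ⟨M, hM⟩ := CharCount.exists_isPModular 2 Nat.prime_two
  obtain ⟨-, χ₁, χ₂, χ₃, χ', δ₁, δ₂, δ₃, hδ, -, -, -, hne, -, -, -, -, -, -, hB, hval, -⟩ :=
    S4481.result M hM 3 le_rfl S hiso σ D.hσ (D.oσ.trans (by norm_num))
      (Complex.exp (2 * Real.pi * Complex.I / ((2 ^ (3 - 1) : ℕ) : ℂ)))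
      (Complex.isPrimitiveRoot_exp _ (by norm_num))
  have hpow : σ ^ 2 ^ (3 - 2) = σ * σ := by norm_num [pow_two]
  obtain ⟨-, hF⟩ := S4482.result M hM 3 le_rfl S σ τ D.hσ D.hτ (D.oσ.trans (by norm_num)) D.oτ D.rel D.gen
    (by rw [hpow]; exact ⟨hone _ _ oJ D.oτ, hone _ _ oJ D.flip.oτ⟩) χ₁
    (by rw [hB]; exact Or.inr (Or.inl rfl)) hne δ₁ hδ (fun l hl hl' => (hval l hl hl').1)
  rw [hpow] at hF
  set x := Cfsg.charDegree (χ₁ : G → ℂ) with hx
  have hx0 : 0 < x := (Chars.charDegree_spec χ₁).1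
  have hxd : x ∈ degrees := by
    obtain ⟨n, -, hn, hnd⟩ := Chars.irr_degree_dvd_card χ₁
    have hxn : x = n := by
      have := (Chars.charDegree_spec χ₁).2
      rw [hn] at this
      exact_mod_cast this.symm
    refine List.mem_filter.mpr ⟨List.mem_range.mpr (charDegree_lt h χ₁ hne), ?_⟩
    rw [hxn]
    exact decide_eq_true (Nat.mod_eq_zero_of_dvd (h ▸ hnd))
  have hJne : centralizer ({σ * σ} : Set G) ≠ ⊤ := centralizer_ne_top h D.σσ_ne
  have h8J : 8 ∣ Nat.card (centralizer ({σ * σ} : Set G)) := by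
    rw [← card_sylow_two h S]
    refine card_dvd_of_le fun s hs => mem_centralizer_singleton_iff.mpr ?_
    rw [← D.gen] at hs
    refine Subgroup.closure_induction (p := fun y _ => y * (σ * σ) = σ * σ * y) ?_ (by simp) ?_ ?_ hs
    · rintro y (rfl | rfl)
      · rw [mul_assoc]
      · exact D.commute_sq.symm
    · intro a b _ _ ha hb
      rw [mul_assoc, hb, ← mul_assoc, ha, mul_assoc]
    · intro a _ ha
      exact (show Commute a (σ * σ) from ha).inv_left.eq
  obtain ⟨m, hm⟩ := h8J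
  have hm21 : m ∣ 21945 := Nat.dvd_of_mul_dvd_mul_left (by norm_num : 0 < 8)
    (by rw [← hm, show 8 * 21945 = Nat.card G by rw [h]]; exact card_subgroup_dvd_card _)
  have hmle : m ≤ 1155 := by
    have := card_le h hJne
    omega
  obtain ⟨a, ham, ha, V, hV4, hVK, hVc⟩ := D.pair_card h hm
  obtain ⟨b, hbm, hb, -⟩ := D.flip.pair_card h hm
  have hmpos : 0 < m := Nat.pos_of_ne_zero fun e => by rw [e] at hm21; norm_num at hm21
  have hmM := mem_oddParts hm21 hmle
  have haM : a ∈ oddParts.filter fun a => m % a = 0 := List.mem_filter.mpr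
    ⟨mem_oddParts (ham.trans hm21) ((Nat.le_of_dvd hmpos ham).trans hmle),
      decide_eq_true (Nat.mod_eq_zero_of_dvd ham)⟩
  have hbM : b ∈ oddParts.filter fun a => m % a = 0 := List.mem_filter.mpr
    ⟨mem_oddParts (hbm.trans hm21) ((Nat.le_of_dvd hmpos hbm).trans hmle),
      decide_eq_true (Nat.mod_eq_zero_of_dvd hbm)⟩
  have hchk := List.all_eq_true.mp (List.all_eq_true.mp (List.all_eq_true.mp
    (List.all_eq_true.mp checkFormula_true m hmM) a haM) b hbM) x hxd
  simp only [Bool.and_eq_true, Bool.not_eq_true', Bool.or_eq_true, Nat.beq_eq] at hchk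
  have ha0 : (a : ℚ) ≠ 0 := Nat.cast_ne_zero.mpr fun e => by
    rw [e] at ham; exact hmpos.ne' (zero_dvd_iff.mp ham)
  have hb0 : (b : ℚ) ≠ 0 := Nat.cast_ne_zero.mpr fun e => by
    rw [e] at hbm; exact hmpos.ne' (zero_dvd_iff.mp hbm)
  rw [h, hm, ha, hb] at hF
  push_cast at hF
  field_simp at hF
  have hF' : (21945 : ℚ) * ((x : ℚ) - δ₁) ^ 2 * (a : ℚ) ^ 2 * (b : ℚ) ^ 2 =
      8 * (m : ℚ) ^ 3 * x * (x + δ₁) * ((a : ℚ) + b) ^ 2 := by linarith
  rcases hδ with rfl | rfl
  · have : 21945 * (x - 1) ^ 2 * a ^ 2 * b ^ 2 = 8 * m ^ 3 * x * (x + 1) * (a + b) ^ 2 := by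
      have hq : ((21945 * (x - 1) ^ 2 * a ^ 2 * b ^ 2 : ℕ) : ℚ) =
          ((8 * m ^ 3 * x * (x + 1) * (a + b) ^ 2 : ℕ) : ℚ) := by
        push_cast [Nat.cast_sub (show 1 ≤ x by omega)] at hF' ⊢
        linarith
      exact_mod_cast hq
    have h2 := hchk.1
    rw [this] at h2
    simp at h2
  · have : 21945 * (x + 1) ^ 2 * a ^ 2 * b ^ 2 = 8 * m ^ 3 * x * (x - 1) * (a + b) ^ 2 := by
      have hq : ((21945 * (x + 1) ^ 2 * a ^ 2 * b ^ 2 : ℕ) : ℚ) =
          ((8 * m ^ 3 * x * (x - 1) * (a + b) ^ 2 : ℕ) : ℚ) := by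
        push_cast [Nat.cast_sub (show 1 ≤ x by omega)] at hF' ⊢
        linarith
      exact_mod_cast hq
    obtain ⟨rfl, rfl⟩ := hchk.2.resolve_left fun e => by rw [this] at e; simp at e
    -- the joint centraliser of order 4180 normalises a Sylow 19-subgroup
    haveI : Fact (Nat.Prime 19) := ⟨by norm_num⟩
    set K := centralizer ({σ * σ, τ} : Set G) with hK
    obtain ⟨P⟩ := (inferInstance : Nonempty (Sylow 19 K))
    have hP19 : Nat.card (P : Subgroup K) = 19 := by
      obtain ⟨k, hk⟩ := IsPGroup.iff_card.mp P.2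
      have h1 : 19 ^ 1 ∣ Nat.card (P : Subgroup K) := P.pow_dvd_card_of_pow_dvd_card (by rw [ha]; norm_num)
      rw [hk, Nat.pow_dvd_pow_iff_le_right (by norm_num)] at h1
      have h2 := card_subgroup_dvd_card (P : Subgroup K)
      rw [hk, ha] at h2
      have hk1 : k ≤ 1 := by
        by_contra hlt
        have h3 := (pow_dvd_pow 19 (show 2 ≤ k by omega)).trans h2
        norm_num at h3
      rw [hk, show k = 1 by omega, pow_one]
    have hVN : V.subgroupOf K ≤ normalizer ((P : Subgroup K) : Set K) := fun v hv =>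
      centralizer_le_normalizer _ (mem_centralizer_iff.mpr fun p _ =>
        Subtype.ext (hVc p p.2 v (mem_subgroupOf.mp hv)).symm)
    have h4N : 4 ∣ Nat.card (normalizer ((P : Subgroup K) : Set K)) := by
      rw [← hV4, ← Nat.card_congr (subgroupOfEquivOfLe hVK).toEquiv]
      exact card_dvd_of_le hVN
    have h76 : 76 ∣ Nat.card (normalizer ((P : Subgroup K) : Set K)) :=
      Nat.Coprime.mul_dvd_of_dvd_of_dvd (by norm_num : Nat.Coprime 4 19) h4N
        (hP19.symm.dvd.trans (card_dvd_of_le le_normalizer))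
    obtain ⟨c, hc⟩ := h76
    have hidx : (normalizer ((P : Subgroup K) : Set K)).index ∣ 55 := by
      have := (normalizer ((P : Subgroup K) : Set K)).card_mul_index
      rw [hc, ha] at this
      exact ⟨c, by linarith⟩
    have hmod := card_sylow_modEq_one 19 K
    rw [P.card_eq_index_normalizer] at hmod
    have hi1 : (normalizer ((P : Subgroup K) : Set K)).index = 1 := by
      have h55 : ∀ i < 56, i ∣ 55 → i % 19 = 1 → i = 1 := by decide
      exact h55 _ (Nat.lt_succ_of_le (Nat.le_of_dvd (by norm_num) hidx)) hidx hmod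
    rw [index_eq_one] at hi1
    obtain ⟨⟨z, hzP⟩, hz⟩ := exists_prime_orderOf_dvd_card' (G := (P : Subgroup K)) 19 (by rw [hP19])
    rw [Subgroup.orderOf_mk] at hz
    have hgen : (P : Subgroup K) = zpowers z := (eq_of_le_of_card_ge (zpowers_le.mpr hzP)
      (by rw [Nat.card_zpowers, hz, hP19])).symm
    have hKN : K ≤ normalizer (zpowers (z : G) : Set G) := by
      intro k hk
      rw [mem_normalizer_iff]
      intro g
      have hkN : (⟨k, hk⟩ : K) ∈ normalizer ((P : Subgroup K) : Set K) := by rw [hi1]; exact mem_top _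
      rw [mem_normalizer_iff] at hkN
      constructor
      · rintro hg
        obtain ⟨i, rfl⟩ := mem_zpowers_iff.mp hg
        have := (hkN (z ^ i)).mp (hgen ▸ zpow_mem (mem_zpowers z) i)
        rw [hgen, mem_zpowers_iff] at this
        obtain ⟨j, hj⟩ := this
        exact mem_zpowers_iff.mpr ⟨j, by simpa using congrArg Subtype.val hj⟩
      · intro hg
        obtain ⟨i, hi⟩ := mem_zpowers_iff.mp hg
        have hgK : g ∈ K := by
          rw [show g = k⁻¹ * (k * g * k⁻¹) * k by group, ← hi]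
          exact mul_mem (mul_mem (inv_mem hk) (zpow_mem z.2 i)) hk
        have := (hkN ⟨g, hgK⟩).mpr (by
          rw [hgen, mem_zpowers_iff]
          exact ⟨i, Subtype.ext (by simpa using hi)⟩)
        rw [hgen, mem_zpowers_iff] at this
        obtain ⟨j, hj⟩ := this
        exact mem_zpowers_iff.mpr ⟨j, by simpa using congrArg Subtype.val hj⟩
    obtain ⟨n, e, hne', hn, hn19, -, -, hrel, -⟩ :=
      prime_data h (q := 19) (by simp) ((Subgroup.orderOf_coe z).trans hz)
    have hCN : centralizer ({(z : G)} : Set G) ≤ normalizer (zpowers (z : G) : Set G) := by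
      rw [← centralizer_zpowers_eq]; exact centralizer_le_normalizer _
    have hNcard : e * Nat.card (centralizer ({(z : G)} : Set G)) =
        Nat.card (normalizer (zpowers (z : G) : Set G)) := by
      rw [← hrel, Subgroup.relIndex, mul_comm, ← Nat.card_congr (subgroupOfEquivOfLe hCN).toEquiv]
      exact card_mul_index _
    obtain ⟨d, hd⟩ := (card_dvd_of_le hKN)
    rw [ha] at hd
    rw [hNcard, hd] at hne'
    have h42 : n ∣ 42 := ⟨d, by linarith⟩
    have h42' : ∀ i < 43, i ∣ 42 → i % 19 = 1 → i < 19 := by decide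
    have := h42' n (Nat.lt_succ_of_le (Nat.le_of_dvd (by norm_num) h42)) h42 hn
    omega

end Cfsg.Agent.Lib.JankoUnique.OrderHyp
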