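import Cfsg.Agent.Lib.JankoUnique.OrderHyp.Cent
import Cfsg.Agent.Lib.JankoUnique.OrderHyp.Almost
import Cfsg.Agent.Lib.JankoOrder.Main
import Cfsg.Agent.S0494
import Mathlib

/-!
# Simple groups of order 175560 have an involution centraliser `Z₂ × A₅`
-/

set_option autoImplicit false
set_option linter.unusedSectionVars false
set_option linter.style.haveILetI false

namespace Cfsg.Agent.Lib.JankoUnique.OrderHyp

open Subgroup

universe u

theorem no_odd_inverter_arith : ∀ c ∈ oddParts, ∀ e < 19, e ∣ 18 → 19 ∣ c → e % 2 = 1 → e ≠ 1 →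
    e * c ∣ 175560 → 175560 / (e * c) % 19 = 1 → False := by
  decide +kernel

theorem no_odd_inverter_big : ∀ c ∈ [1463, 1995, 3135, 4389, 7315, 21945], ∀ e < 19, e ∣ 18 →
    19 ∣ c → e % 2 = 1 → e ≠ 1 → e * c ∣ 175560 → 175560 / (e * c) % 19 = 1 → False := by
  decide +kernel

variable {G : Type u} [Group G] [Finite G] [IsSimpleGroup G]

theorem ne_1320 (h : Nat.card G = 175560) {t : G} (ht : orderOf t = 2) :
    Nat.card (centralizer ({t} : Set G)) ≠ 1320 := by
  classical
  intro h1320
  haveI := Fintype.ofFinite G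
  haveI : Fact (Nat.Prime 19) := ⟨by norm_num⟩
  haveI : Fact (Nat.Prime 2) := ⟨Nat.prime_two⟩
  have hallC : ∀ w : G, orderOf w = 2 → Nat.card (centralizer ({w} : Set G)) = 1320 := fun w hw => by
    obtain ⟨φ⟩ := centralizer_equiv (isConj_involutions h ht hw)
    rw [← Nat.card_congr φ.toEquiv, h1320]
  obtain ⟨z, hz⟩ := exists_prime_orderOf_dvd_card' (G := G) 19 (by rw [h]; norm_num)
  have hnc : ∀ w : G, orderOf w = 2 → w * z ≠ z * w := fun w hw hwz => by
    have := Subgroup.orderOf_dvd_natCard _ (mem_centralizer_singleton_iff.mpr hwz.symm :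
      z ∈ centralizer ({w} : Set G))
    rw [hz, hallC w hw] at this
    norm_num at this
  obtain ⟨n, e, hne, hn, hn19, he18, he1, hrel, hc19⟩ := prime_data h (q := 19) (by simp) hz
  set c := Nat.card (centralizer ({z} : Set G)) with hc
  have hcodd : Odd c := by
    rw [← Nat.not_even_iff_odd, even_iff_two_dvd]
    intro h2
    obtain ⟨⟨w, hw⟩, hwo⟩ := exists_prime_orderOf_dvd_card' (G := centralizer ({z} : Set G)) 2 h2
    rw [Subgroup.orderOf_mk] at hwo
    exact hnc w hwo (mem_centralizer_singleton_iff.mp hw)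
  have heven : 2 ∣ e := by
    by_contra he2
    have hc21 : c ∣ 21945 := by
      have hd : c ∣ 8 * 21945 := ⟨n * e, by rw [show 8 * 21945 = 175560 by norm_num, ← hne]; ring⟩
      exact (Nat.Coprime.pow_right 3 (Nat.coprime_two_right.mpr hcodd)).dvd_of_dvd_mul_left hd
    have hpos : 0 < e * c := Nat.pos_of_ne_zero fun h0 => by rw [h0, mul_zero] at hne; norm_num at hne
    have hdiv : 175560 / (e * c) = n := by rw [← hne, Nat.mul_div_cancel _ hpos]
    have he' : e < 19 := Nat.lt_succ_of_le (Nat.le_of_dvd (by norm_num) he18)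
    by_cases hcs : c ≤ 1155
    · exact no_odd_inverter_arith c (mem_oddParts hc21 hcs) e he' he18 hc19 (by omega) he1
        ⟨n, by rw [mul_comm]; exact hne.symm⟩ (by rw [hdiv]; exact hn)
    · refine no_odd_inverter_big c ?_ e he' he18 hc19 (by omega) he1
        ⟨n, by rw [mul_comm]; exact hne.symm⟩ (by rw [hdiv]; exact hn)
      have hc21' := hc21
      rw [show (21945 : ℕ) = 19 * 1155 by norm_num] at hc21'
      obtain ⟨k, hk⟩ := hc19
      have hk1 : k ∣ 1155 := Nat.dvd_of_mul_dvd_mul_left (by norm_num : 0 < 19) (hk ▸ hc21')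
      have hk2 : 61 ≤ k := by omega
      have hklist : ∀ j ∈ oddParts, 61 ≤ j → j ∣ 1155 →
          19 * j ∈ [1463, 1995, 3135, 4389, 7315, 21945] := by decide
      rw [hk]
      exact hklist k (mem_oddParts (hk1.trans (by norm_num)) (Nat.le_of_dvd (by norm_num) hk1)) hk2 hk1
  -- an element inverting `z`
  set N := normalizer (zpowers z : Set G) with hN
  let ψ : N →* MulAut (zpowers z) := (zpowers z).normalizerMonoidHom
  have hψe : Nat.card ψ.range = e := by
    rw [← hrel, ← centralizer_zpowers_eq, Subgroup.relIndex, ← normalizerMonoidHom_ker, index_ker]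
  obtain ⟨⟨r, a, rfl⟩, hr⟩ := exists_prime_orderOf_dvd_card' (G := ψ.range) 2 (by rw [hψe]; exact heven)
  replace hr : orderOf (ψ a) = 2 := (Subgroup.orderOf_coe (⟨ψ a, ⟨a, rfl⟩⟩ : ψ.range)).trans hr
  have hinv : (a : G) * z * (a : G)⁻¹ = z⁻¹ := by
    have hra : ∀ x : zpowers z, ψ a (ψ a x) = x := fun x => by
      have := pow_orderOf_eq_one (ψ a)
      rw [hr, pow_two] at this
      exact congrArg (fun f : MulAut (zpowers z) => f x) this
    set zz : zpowers z := ⟨z, mem_zpowers z⟩
    let F : Subgroup (zpowers z) := InvertedBound.fixedSub (ψ a).toMonoidHom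
    haveI : Fact (Nat.card (zpowers z)).Prime := ⟨by rw [Nat.card_zpowers, hz]; norm_num⟩
    rcases F.eq_bot_or_eq_top_of_prime_card with hb | ht'
    · have h1 : zz * ψ a zz ∈ F := InvertedBound.mem_fixedSub.mpr (by
        show ψ a (zz * ψ a zz) = zz * ψ a zz
        rw [map_mul, hra]
        exact Subtype.ext (by
          obtain ⟨i, hi⟩ := mem_zpowers_iff.mp (ψ a zz).2
          show ((ψ a zz : zpowers z) : G) * z = z * ((ψ a zz : zpowers z) : G)
          rw [← hi]
          exact (Commute.zpow_self z i).eq))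
      rw [hb, mem_bot] at h1
      exact (congrArg Subtype.val (eq_inv_of_mul_eq_one_right h1) :)
    · exfalso
      have : ψ a = 1 := MulEquiv.ext fun x => InvertedBound.mem_fixedSub.mp (ht' ▸ mem_top x)
      rw [this, orderOf_one] at hr
      norm_num at hr
  obtain ⟨i, o, ho, hio⟩ := Nat.exists_eq_two_pow_mul_odd (n := orderOf (a : G)) (orderOf_pos _).ne'
  set v := (a : G) ^ o with hv
  have hvinv : v * z * v⁻¹ = z⁻¹ := by
    have key : ∀ k : ℕ, (a : G) ^ k * z * ((a : G) ^ k)⁻¹ = if k % 2 = 0 then z else z⁻¹ := by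
      intro k
      induction k with
      | zero => simp
      | succ k ih =>
        rw [pow_succ', show (a : G) * (a : G) ^ k * z * ((a : G) * (a : G) ^ k)⁻¹ =
          (a : G) * ((a : G) ^ k * z * ((a : G) ^ k)⁻¹) * (a : G)⁻¹ by group, ih]
        by_cases hk : k % 2 = 0
        · rw [if_pos hk, if_neg (by omega), hinv]
        · rw [if_neg hk, if_pos (by omega)]
          calc (a : G) * z⁻¹ * (a : G)⁻¹ = ((a : G) * z * (a : G)⁻¹)⁻¹ := by group
            _ = z := by rw [hinv, inv_inv]
    rw [hv, key o, if_neg (by rw [Nat.odd_iff.mp ho]; norm_num)]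
  have hzinv : z⁻¹ ≠ z := fun e' => by
    have h2 : orderOf z ∣ 2 := orderOf_dvd_of_pow_eq_one (by
      rw [pow_two]; nth_rewrite 1 [← e']; exact inv_mul_cancel z)
    rw [hz] at h2; norm_num at h2
  have hv2 : v * v = 1 := by
    have hcomm : v * v * z = z * (v * v) := by
      refine mul_inv_eq_iff_eq_mul.mp ?_
      calc v * v * z * (v * v)⁻¹ = v * (v * z * v⁻¹) * v⁻¹ := by group
        _ = v * z⁻¹ * v⁻¹ := by rw [hvinv]
        _ = (v * z * v⁻¹)⁻¹ := by group
        _ = z := by rw [hvinv, inv_inv]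
    have h1 : orderOf (v * v) ∣ c :=
      Subgroup.orderOf_dvd_natCard _ (mem_centralizer_singleton_iff.mpr hcomm)
    have h2 : orderOf (v * v) ∣ 2 ^ i := orderOf_dvd_of_pow_eq_one (by
      rw [← pow_two, ← pow_mul, hv, ← pow_mul, show o * (2 * 2 ^ i) = 2 ^ i * o * 2 by ring, pow_mul,
        ← hio, pow_orderOf_eq_one, one_pow])
    exact orderOf_eq_one_iff.mp (Nat.dvd_one.mp
      ((Nat.Coprime.pow_left i (Nat.coprime_two_left.mpr hcodd)).gcd_eq_one ▸ Nat.dvd_gcd h2 h1))
  have hv1 : v ≠ 1 := fun e' => hzinv (by rw [← hvinv, e']; group)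
  have hvo : orderOf v = 2 := Involution.orderOf_eq_two hv2 hv1
  -- counting the involutions
  set I : Set G := {w | orderOf w = 2} with hI
  have hIcard : I.ncard = 133 := by
    have h1 := Involution.card_isConj_mul_card_centralizer t
    rw [h1320, h] at h1
    have heq : I = {w | IsConj t w} := Set.ext fun w =>
      ⟨fun hw => isConj_involutions h ht hw, fun hw => (Involution.isConj_orderOf hw).trans ht⟩
    rw [heq, ← Nat.card_coe_set_eq]
    have : Nat.card ↥{w : G | IsConj t w} = Nat.card {y : G // IsConj t y} := rfl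
    omega
  set J : Set G := {w | orderOf w = 2 ∧ w * v = v * w} with hJ
  have hJ7 : J.ncard * 19 ≤ 133 := by
    have hf : Function.Injective fun q : J × Fin 19 =>
        (⟨z ^ (q.2 : ℕ) * (q.1 : G) * (z ^ (q.2 : ℕ))⁻¹,
          (Involution.orderOf_conj_eq _ _).trans q.1.2.1⟩ : I) := by
      rintro ⟨⟨w, hwo, hwv⟩, i'⟩ ⟨⟨w', hwo', hwv'⟩, j'⟩ hq
      have hq' : z ^ (i' : ℕ) * w * (z ^ (i' : ℕ))⁻¹ = z ^ (j' : ℕ) * w' * (z ^ (j' : ℕ))⁻¹ :=
        congrArg Subtype.val hq
      set d : ℤ := (i' : ℤ) - j' with hd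
      have hw' : z ^ d * w * (z ^ d)⁻¹ = w' := by
        rw [hd, zpow_sub, zpow_natCast, zpow_natCast]
        calc z ^ (i' : ℕ) * (z ^ (j' : ℕ))⁻¹ * w * (z ^ (i' : ℕ) * (z ^ (j' : ℕ))⁻¹)⁻¹
            = (z ^ (j' : ℕ))⁻¹ * (z ^ (i' : ℕ) * w * (z ^ (i' : ℕ))⁻¹) * z ^ (j' : ℕ) := by
              rw [((Commute.refl z).pow_pow _ _).inv_right.eq]; group
          _ = (z ^ (j' : ℕ))⁻¹ * (z ^ (j' : ℕ) * w' * (z ^ (j' : ℕ))⁻¹) * z ^ (j' : ℕ) := by rw [hq']
          _ = w' := by group
      have hvz : v * z ^ d * v⁻¹ = (z ^ d)⁻¹ := by rw [← conj_zpow, hvinv, inv_zpow]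
      have h2 : (z ^ d)⁻¹ * w * z ^ d = z ^ d * w * (z ^ d)⁻¹ := by
        calc (z ^ d)⁻¹ * w * z ^ d = v * z ^ d * v⁻¹ * w * (v * z ^ d * v⁻¹)⁻¹ := by rw [hvz, inv_inv]
          _ = v * z ^ d * (v⁻¹ * w * v) * (z ^ d)⁻¹ * v⁻¹ := by group
          _ = v * (z ^ d * w * (z ^ d)⁻¹) * v⁻¹ := by
            rw [show v⁻¹ * w * v = w by rw [mul_assoc, hwv]; group]; group
          _ = v * w' * v⁻¹ := by rw [hw']
          _ = z ^ d * w * (z ^ d)⁻¹ := by rw [← hwv', mul_inv_cancel_right, hw']
      have h3 : Commute (z ^ (d + d)) w := by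
        show z ^ (d + d) * w = w * z ^ (d + d)
        rw [zpow_add]
        calc z ^ d * z ^ d * w = z ^ d * (z ^ d * w * (z ^ d)⁻¹) * z ^ d := by group
          _ = z ^ d * ((z ^ d)⁻¹ * w * z ^ d) * z ^ d := by rw [h2]
          _ = w * (z ^ d * z ^ d) := by group
      have h4 : (19 : ℤ) ∣ d + d := by
        by_contra hnd
        have hcop : Commute z w := by
          have hg : Int.gcd (d + d) 19 = 1 := by
            rcases (Nat.dvd_prime (by norm_num : Nat.Prime 19)).mp (Int.gcd_dvd_natAbs_right (d + d) 19) with e' | e'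
            · exact e'
            · exact absurd (e' ▸ Int.gcd_dvd_left (d + d) 19 : ((19 : ℕ) : ℤ) ∣ d + d) (by exact_mod_cast hnd)
          have hz19 : z ^ (19 : ℤ) = 1 := by
            rw [show (19 : ℤ) = ((19 : ℕ) : ℤ) by norm_num, zpow_natCast, ← hz, pow_orderOf_eq_one]
          have hb := Int.gcd_eq_gcd_ab (d + d) 19
          rw [hg] at hb
          have : z = (z ^ (d + d)) ^ Int.gcdA (d + d) 19 := by
            calc z = z ^ ((1 : ℕ) : ℤ) := by simp
              _ = (z ^ (d + d)) ^ Int.gcdA (d + d) 19 := by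
                rw [hb, zpow_add, zpow_mul, zpow_mul, hz19, one_zpow, mul_one]
          rw [this]
          exact h3.zpow_left _
        exact hnc w hwo hcop.eq.symm
      have hd0 : d = 0 := by
        have := i'.isLt; have := j'.isLt
        omega
      have hij : i' = j' := Fin.ext (by omega)
      rw [hd0, zpow_zero, one_mul, inv_one, mul_one] at hw'
      exact Prod.ext (Subtype.ext hw') hij
    have := Nat.card_le_card_of_injective _ hf
    rw [Nat.card_prod, Nat.card_coe_set_eq, Nat.card_coe_set_eq, hIcard, Nat.card_eq_fintype_card,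
      Fintype.card_fin] at this
    exact this
  -- the involutions of the centraliser do not all lie in one Sylow subgroup
  obtain ⟨S, hvS⟩ := exists_sylow_mem hvo
  have sq := sylow_sq h S
  have hsub : ((S : Subgroup G) : Set G) \ {1} ⊆ J := fun x hx =>
    ⟨Involution.orderOf_eq_two (sq x hx.1) hx.2, sylow_comm h S x hx.1 v hvS⟩
  have hS7 : (((S : Subgroup G) : Set G) \ {1}).ncard = 7 := by
    rw [Set.ncard_sdiff_singleton_of_mem (one_mem _), ← Nat.card_coe_set_eq]
    exact congrArg (· - 1) (card_sylow_two h S)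
  have heqJ : ((S : Subgroup G) : Set G) \ {1} = J :=
    Set.eq_of_subset_of_ncard_le hsub (by omega) (Set.toFinite _)
  have hCN : centralizer ({v} : Set G) ≤ normalizer ((S : Subgroup G) : Set G) := by
    intro x hx
    have hxv := mem_centralizer_singleton_iff.mp hx
    rw [mem_normalizer_iff]
    have key : ∀ y : G, Commute y v → ∀ s ∈ (S : Subgroup G), y * s * y⁻¹ ∈ (S : Subgroup G) := by
      intro y hy s hs
      by_cases hs1 : s = 1
      · rw [hs1]; simp
      have hcv : Commute (y * s * y⁻¹) v :=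
        (hy.mul_left (sylow_comm h S s hs v hvS)).mul_left hy.inv_left
      have : y * s * y⁻¹ ∈ J :=
        ⟨(Involution.orderOf_conj_eq y s).trans (Involution.orderOf_eq_two (sq s hs) hs1), hcv.eq⟩
      rw [← heqJ] at this
      exact this.1
    intro s
    refine ⟨key x hxv s, fun hs => ?_⟩
    have := key x⁻¹ (show Commute x v from hxv).inv_left _ hs
    rwa [show x⁻¹ * (x * s * x⁻¹) * x⁻¹⁻¹ = s by group] at this
  have := card_dvd_of_le hCN
  rw [hallC v hvo, card_normalizer_sylow h S] at this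
  norm_num at this

theorem conj_mem_of_normal_two {C : Type u} [Group C] [Finite C] (E : Subgroup C) [E.Normal]
    (hE : IsPGroup 2 E) (P : Sylow 2 C) : E ≤ (P : Subgroup C) := by
  obtain ⟨Q, hQ⟩ := hE.exists_le_sylow
  haveI : Fact (Nat.Prime 2) := ⟨Nat.prime_two⟩
  obtain ⟨g, hg⟩ := MulAction.exists_smul_eq C Q P
  intro x hx
  rw [← hg, Sylow.coe_subgroup_smul]
  exact ⟨g⁻¹ * x * g, hQ (by simpa using ‹E.Normal›.conj_mem x hx g⁻¹), by
    show g * (g⁻¹ * x * g) * g⁻¹ = x
    group⟩

set_option maxHeartbeats 1000000 in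
/-- The centraliser of an involution is `Z₂ × A₅`. -/
theorem centralizer_iso (h : Nat.card G = 175560) {t : G} (ht : orderOf t = 2) :
    Nonempty (centralizer ({t} : Set G) ≃* Multiplicative (ZMod 2) × alternatingGroup (Fin 5)) := by
  classical
  haveI : Fact (Nat.Prime 2) := ⟨Nat.prime_two⟩
  obtain ⟨⟨S, htS, n, hnN, hn3, hnt, hmove⟩, hcore, hns⟩ := centFacts h ht
  have sq := sylow_sq h S
  have ht1 : t ≠ 1 := Involution.ne_one ht
  set C := centralizer ({t} : Set G) with hC
  have hSC : (S : Subgroup G) ≤ C := sylow_le_centralizer h S htS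
  let tC : C := ⟨t, mem_centralizer_singleton_iff.mpr rfl⟩
  have htc : ∀ x : C, tC * x = x * tC := fun x =>
    Subtype.ext (mem_centralizer_singleton_iff.mp x.2).symm
  set Z : Subgroup C := zpowers tC with hZ
  have hZc : ∀ z ∈ Z, ∀ x : C, z * x = x * z := fun z hz x => by
    obtain ⟨i, rfl⟩ := mem_zpowers_iff.mp hz
    exact ((show Commute tC x from htc x).zpow_left i).eq
  haveI : Z.Normal := ⟨fun z hz x => by rw [← hZc z hz x, mul_inv_cancel_right]; exact hz⟩
  have hZ2 : Nat.card Z = 2 := by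
    rw [hZ, Nat.card_zpowers, ← Subgroup.orderOf_coe]; exact ht
  obtain ⟨m, hm⟩ : 8 ∣ Nat.card C := card_sylow_two h S ▸ card_dvd_of_le hSC
  have hm21 : m ∣ 21945 := Nat.dvd_of_mul_dvd_mul_left (by norm_num : 0 < 8)
    (by rw [← hm, show 8 * 21945 = Nat.card G by rw [h]]; exact card_subgroup_dvd_card C)
  have hmle : m ≤ 1155 := by
    have hle : Nat.card C ≤ 9240 := card_le h (centralizer_ne_top h ht1)
    omega
  have hQcard : Nat.card (C ⧸ Z) = 4 * m := by
    have := card_eq_card_quotient_mul_card_subgroup Z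
    rw [hm, hZ2] at this
    omega
  let π := QuotientGroup.mk' Z
  have hcomap : ∀ K : Subgroup (C ⧸ Z), Nat.card (K.comap π) = 2 * Nat.card K := by
    intro K
    have h1 := (K.comap π).card_mul_index
    have h2 := K.card_mul_index
    rw [K.index_comap_of_surjective (QuotientGroup.mk'_surjective Z), hm] at h1
    rw [hQcard] at h2
    have hi : 0 < K.index := Nat.pos_of_ne_zero index_ne_zero_of_finite
    refine Nat.eq_of_mul_eq_mul_right hi ?_
    rw [h1, mul_assoc, h2]; ring
  have hbotK : ∀ K : Subgroup (C ⧸ Z), Nat.card (K.comap π) = 2 → K = ⊥ := fun K hK => by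
    apply eq_bot_of_card_eq
    have := hcomap K
    omega
  have hodd : ∀ K : Subgroup (C ⧸ Z), K.Normal → Odd (Nat.card K) → K = ⊥ := by
    intro K hK hKodd
    haveI := hK
    set E := K.comap π with hE
    have hZE : Z ≤ E := fun x hx => by
      show π x ∈ K
      rw [show π x = 1 from (QuotientGroup.eq_one_iff x).mpr hx]
      exact one_mem K
    -- the elements of odd order
    let O : Subgroup C := closure {x | x ∈ E ∧ Odd (orderOf x)}
    have hOn : O.Normal := by
      refine ⟨fun x hx g => ?_⟩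
      have h1 : MulAut.conj g x ∈ O.map (MulAut.conj g).toMonoidHom := ⟨x, hx, rfl⟩
      rw [MonoidHom.map_closure] at h1
      refine closure_mono ?_ h1
      rintro _ ⟨y, ⟨hy, hyo⟩, rfl⟩
      exact ⟨(inferInstance : E.Normal).conj_mem y hy g, by
        rw [MulEquiv.coe_toMonoidHom, MulAut.conj_apply, Involution.orderOf_conj_eq]; exact hyo⟩
    let ZE : Sylow 2 E := (IsPGroup.of_card (n := 1) (by
        rw [Nat.card_congr (subgroupOfEquivOfLe hZE).toEquiv, hZ2, pow_one]) :
          IsPGroup 2 (Z.subgroupOf E)).toSylow (by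
      have h1 := (Z.subgroupOf E).card_mul_index
      rw [Nat.card_congr (subgroupOfEquivOfLe hZE).toEquiv, hZ2, hcomap] at h1
      rw [show (Z.subgroupOf E).index = Nat.card K by omega]
      exact hKodd.not_two_dvd_nat)
    have hburn : normalizer ((ZE : Subgroup E) : Set E) ≤ centralizer ((ZE : Subgroup E) : Set E) :=
      fun x _ => mem_centralizer_iff.mpr fun z hz => Subtype.ext (hZc _ (mem_subgroupOf.mp hz) x)
    set O' := (MonoidHom.transferSylow ZE hburn).ker with hO'
    have hcompl : IsComplement' O' (ZE : Subgroup E) := MonoidHom.ker_transferSylow_isComplement' ZE hburn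
    have hO'card : Nat.card O' = Nat.card K := by
      have h1 := hcompl.card_mul
      rw [show Nat.card (ZE : Subgroup E) = 2 by
        show Nat.card (Z.subgroupOf E) = 2
        rw [Nat.card_congr (subgroupOfEquivOfLe hZE).toEquiv, hZ2], hcomap] at h1
      omega
    have hOle : O ≤ O'.map E.subtype := by
      refine (closure_le _).mpr ?_
      rintro x ⟨hx, hxo⟩
      refine ⟨⟨x, hx⟩, ?_, rfl⟩
      rw [SetLike.mem_coe, hO', MonoidHom.mem_ker]
      set w := MonoidHom.transferSylow ZE hburn ⟨x, hx⟩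
      have h1 : orderOf w ∣ orderOf x := by
        rw [← Subgroup.orderOf_mk x hx]; exact orderOf_map_dvd _ _
      have h2 : orderOf w ∣ 2 := by
        refine (orderOf_dvd_natCard w).trans (dvd_of_eq ?_)
        show Nat.card (Z.subgroupOf E) = 2
        rw [Nat.card_congr (subgroupOfEquivOfLe hZE).toEquiv, hZ2]
      refine orderOf_eq_one_iff.mp (Nat.dvd_one.mp ?_)
      have hc : Nat.Coprime (orderOf x) 2 := Nat.coprime_two_right.mpr hxo
      exact hc.gcd_eq_one ▸ Nat.dvd_gcd h1 h2
    have hOodd : Odd (Nat.card O) := by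
      refine hKodd.of_dvd_nat (hO'card ▸ ?_)
      exact (card_dvd_of_le hOle).trans (card_map_of_injective E.subtype_injective).dvd
    have hObot := hcore O hOn hOodd
    refine hbotK K ?_
    by_contra hne
    have hKne : Nat.card K ≠ 1 := fun e => hne (by rw [hcomap, e])
    obtain ⟨p, hp, hpK⟩ := Nat.exists_prime_and_dvd hKne
    haveI : Fact p.Prime := ⟨hp⟩
    obtain ⟨⟨x, hx⟩, hxo⟩ := exists_prime_orderOf_dvd_card' (G := E) p (hcomap K ▸ dvd_mul_of_dvd_right hpK 2)
    rw [Subgroup.orderOf_mk] at hxo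
    have hxO : x ∈ O := Subgroup.subset_closure ⟨hx, hxo ▸ hKodd.of_dvd_nat hpK⟩
    rw [hObot, mem_bot] at hxO
    rw [hxO, orderOf_one] at hxo
    exact hp.ne_one hxo.symm
  have hNcard : Nat.card ↥(normalizer ((S : Subgroup G) : Set G) ⊓ C) = 24 := by
    have hs : 7 * Nat.card ↥(normalizer ((S : Subgroup G) : Set G) ⊓ C) =
        Nat.card (normalizer ((S : Subgroup G) : Set G)) := card_stab h S htS ht1
    rw [card_normalizer_sylow h S] at hs
    omega
  have htwo : ∀ K : Subgroup (C ⧸ Z), K.Normal → IsPGroup 2 K → K = ⊥ := by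
    intro K hK hK2
    haveI := hK
    set E := K.comap π with hE
    have hE2 : IsPGroup 2 E := by
      obtain ⟨k, hk⟩ := IsPGroup.iff_card.mp hK2
      exact IsPGroup.of_card (n := k + 1) (by rw [hcomap, hk, pow_succ'])
    have hES : E ≤ (S.subtype hSC : Sylow 2 C) := conj_mem_of_normal_two E hE2 _
    have hESmem : ∀ x ∈ E, (x : G) ∈ (S : Subgroup G) := fun x hx => by
      have := hES hx
      rwa [Sylow.coe_subtype, mem_subgroupOf] at this
    refine hbotK K ?_
    have hZE : Z ≤ E := fun x hx => by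
      show π x ∈ K
      rw [show π x = 1 from (QuotientGroup.eq_one_iff x).mpr hx]
      exact one_mem K
    by_contra hne
    obtain ⟨a, haE, haZ⟩ : ∃ a ∈ E, a ∉ Z := by
      by_contra hall
      push Not at hall
      exact hne (by rw [← hE, le_antisymm hall hZE, hZ2])
    have hpowS : ∀ x ∈ Z, (x : G) = 1 ∨ (x : G) = t := fun x hx => by
      obtain ⟨i, rfl⟩ := mem_zpowers_iff.mp hx
      rw [SubgroupClass.coe_zpow]
      rcases Int.even_or_odd i with ⟨k, hk⟩ | ⟨k, hk⟩
      · left; rw [hk, ← two_mul, zpow_mul, show (tC : G) ^ (2 : ℤ) = 1 by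
          rw [zpow_two]; exact sq t htS, one_zpow]
      · right; rw [hk, zpow_add, zpow_mul, show (tC : G) ^ (2 : ℤ) = 1 by
          rw [zpow_two]; exact sq t htS, one_zpow, one_mul, zpow_one]
    have ha1 : (a : G) ≠ 1 := fun e => haZ (by rw [show a = 1 from Subtype.ext e]; exact one_mem Z)
    have hat : (a : G) ≠ t := fun e => haZ (by rw [show a = tC from Subtype.ext e]; exact mem_zpowers tC)
    have haS := hESmem a haE
    set f : G := n * (a : G) * n⁻¹ with hf
    have hfS : f ∈ (S : Subgroup G) := (mem_normalizer_iff.mp hnN a).mp haS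
    have hnC : n ∈ C := mem_centralizer_singleton_iff.mpr hnt
    have hfE : (⟨f, hSC hfS⟩ : C) ∈ E := (inferInstance : E.Normal).conj_mem a haE ⟨n, hnC⟩
    obtain ⟨hfa, hfta⟩ := hmove a haS ha1 hat
    have hf1 : f ≠ 1 := fun e => ha1 (conj_eq_one_iff.mp e)
    have hft : f ≠ t := fun e => hat (by
      apply mul_left_cancel (a := n)
      apply mul_right_cancel (b := n⁻¹)
      rw [← hf, e, mul_inv_eq_iff_eq_mul.mpr hnt])
    -- so the whole Sylow subgroup is normal
    have hall : ∀ s ∈ (S : Subgroup G), ∃ hs : s ∈ C, (⟨s, hs⟩ : C) ∈ E := by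
      intro s hs
      refine ⟨hSC hs, ?_⟩
      have hT : tC ∈ E := hZE (mem_zpowers tC)
      rcases sylow_elems h S htS haS hfS ht1 ha1 hat hf1 hft hfa hfta s hs with
        rfl | rfl | rfl | rfl | rfl | rfl | rfl | rfl
      exacts [one_mem E, hT, haE, mul_mem hT haE, hfE, mul_mem hT hfE, mul_mem haE hfE,
        mul_mem hT (mul_mem haE hfE)]
    have hCN : C ≤ normalizer ((S : Subgroup G) : Set G) := by
      intro x hx
      rw [mem_normalizer_iff]
      intro s
      constructor
      · intro hs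
        obtain ⟨hsC, hsE⟩ := hall s hs
        exact hESmem _ ((inferInstance : E.Normal).conj_mem _ hsE ⟨x, hx⟩)
      · intro hs
        obtain ⟨hsC, hsE⟩ := hall _ hs
        have := hESmem _ ((inferInstance : E.Normal).conj_mem _ hsE (⟨x, hx⟩ : C)⁻¹)
        simp only [coe_mul, coe_inv, inv_inv] at this
        rwa [show x⁻¹ * (x * s * x⁻¹) * x = s by group] at this
    -- hence it is solvable
    have h24 : Nat.card C = 24 := by rw [← hNcard, inf_eq_right.mpr hCN]
    refine hns ?_
    set P := (S : Subgroup G).subgroupOf C with hP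
    haveI : P.Normal := ⟨fun x hx g => mem_subgroupOf.mpr
      ((mem_normalizer_iff.mp (hCN g.2) _).mp (mem_subgroupOf.mp hx))⟩
    have hi : Nat.card (C ⧸ P) = 3 := by
      have := card_eq_card_quotient_mul_card_subgroup P
      rw [h24, Nat.card_congr (subgroupOfEquivOfLe hSC).toEquiv, card_sylow_two h S] at this
      omega
    haveI : Group.IsSolvable (C ⧸ P) := isSolvable_of_squarefree (by rw [hi]; exact Nat.prime_three.squarefree)
    haveI : Group.IsSolvable P := Group.isSolvable_of_comm fun a b =>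
      Subtype.ext (Subtype.ext (sylow_comm h S _ (mem_subgroupOf.mp a.2) _ (mem_subgroupOf.mp b.2)))
    exact Group.isSolvable_of_ker_le_range P.subtype (QuotientGroup.mk' P)
      (by rw [QuotientGroup.ker_mk', Subgroup.range_subtype])
  haveI : Nontrivial (C ⧸ Z) := Finite.one_lt_card_iff_nontrivial.mp (by
    rw [hQcard]; have := (Odd.of_dvd_nat (by decide : Odd 21945) hm21).pos; omega)
  obtain ⟨hsimple, hord, hQnc⟩ := simple_of_radical hm21 hmle hQcard hodd htwo
  haveI := hsimple
  have h60 : Nat.card (C ⧸ Z) = 60 := hord.resolve_right fun e => ne_1320 h ht (by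
    show Nat.card C = 1320
    omega)
  have h120 : Nat.card C = 120 := by omega
  -- the derived subgroup
  have hscomm : ∀ a b : (S : Subgroup G).subgroupOf C, a * b = b * a := fun a b =>
    Subtype.ext (Subtype.ext (sylow_comm h S _ (mem_subgroupOf.mp a.2) _ (mem_subgroupOf.mp b.2)))
  letI : CommGroup ((S : Subgroup G).subgroupOf C) :=
    { (inferInstance : Group ((S : Subgroup G).subgroupOf C)) with mul_comm := hscomm }
  let T : C →* (S : Subgroup G).subgroupOf C := MonoidHom.transfer (MonoidHom.id _)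
  have hidx : ((S : Subgroup G).subgroupOf C).index = 15 := by
    have := ((S : Subgroup G).subgroupOf C).card_mul_index
    rw [h120, Nat.card_congr (subgroupOfEquivOfLe hSC).toEquiv, card_sylow_two h S] at this
    omega
  have key : ∀ (k : ℕ) (g₀ : C), g₀⁻¹ * tC ^ k * g₀ ∈ (S : Subgroup G).subgroupOf C →
      g₀⁻¹ * tC ^ k * g₀ = tC ^ k := fun k g₀ _ => by
    rw [mul_assoc, ((show Commute tC g₀ from htc g₀).pow_left k).eq, inv_mul_cancel_left]
  set D := commutator C with hD
  have htD : tC ∉ D := fun hmem => by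
    have h1 : T tC = 1 := MonoidHom.mem_ker.mp (Abelianization.commutator_subset_ker T hmem)
    rw [MonoidHom.transfer_eq_pow _ tC key, MonoidHom.id_apply] at h1
    have h2 : tC ^ ((S : Subgroup G).subgroupOf C).index = 1 := congrArg Subtype.val h1
    have h3 := orderOf_dvd_of_pow_eq_one h2
    rw [hidx, ← Subgroup.orderOf_coe, show ((tC : C) : G) = t from rfl, ht] at h3
    norm_num at h3
  have hDsurj : D.map π = ⊤ := by
    rw [hD, _root_.commutator_def, map_commutator, ← MonoidHom.range_eq_map,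
      MonoidHom.range_eq_top.mpr (QuotientGroup.mk'_surjective Z), ← _root_.commutator_def]
    exact SmallGroups.commutator_eq_top hQnc
  have hdisj : ∀ x ∈ D, x ∈ Z → x = 1 := by
    intro x hxD hxZ
    by_contra hx1
    have : zpowers x = Z := eq_of_le_of_card_ge (zpowers_le.mpr hxZ) (by
      rw [hZ2, Nat.card_zpowers]
      have h1 : orderOf x ≠ 1 := fun e => hx1 (orderOf_eq_one_iff.mp e)
      have := orderOf_pos x
      omega)
    exact htD (zpowers_le.mpr hxD (this ▸ mem_zpowers tC))
  let ρ : D →* C ⧸ Z := π.comp D.subtype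
  have hρ : Function.Bijective ρ := by
    refine ⟨(injective_iff_map_eq_one ρ).mpr fun x hx => Subtype.ext
      (hdisj x x.2 ((QuotientGroup.eq_one_iff _).mp hx)), fun q => ?_⟩
    obtain ⟨x, hx, rfl⟩ := (hDsurj ▸ mem_top q : q ∈ D.map π)
    exact ⟨⟨x, hx⟩, rfl⟩
  obtain ⟨eA⟩ := S0494.result (G := C ⧸ Z) h60
  let eD : alternatingGroup (Fin 5) ≃* D := eA.symm.trans (MulEquiv.ofBijective ρ hρ).symm
  have h2card : Nat.card (Multiplicative (ZMod 2)) = 2 := by
    rw [Nat.card_eq_fintype_card, Fintype.card_multiplicative, ZMod.card]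
  let eZ : Multiplicative (ZMod 2) ≃* Z := mulEquivOfPrimeCardEq (p := 2) h2card hZ2
  let Φ : Multiplicative (ZMod 2) × alternatingGroup (Fin 5) →* C :=
    (Z.subtype.comp eZ.toMonoidHom).noncommCoprod (D.subtype.comp eD.toMonoidHom)
      fun a b => hZc _ (eZ a).2 _
  have hΦ : Function.Bijective Φ := by
    refine (Nat.bijective_iff_injective_and_card Φ).mpr ⟨(injective_iff_map_eq_one Φ).mpr ?_, ?_⟩
    · rintro ⟨a, b⟩ hab
      have hab' : ((eZ a : Z) : C) * ((eD b : D) : C) = 1 := hab
      have hb : ((eD b : D) : C) = 1 := hdisj _ (eD b).2 (by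
        rw [eq_inv_of_mul_eq_one_right hab']
        exact inv_mem (eZ a).2)
      rw [hb, mul_one] at hab'
      exact Prod.ext ((MulEquiv.map_eq_one_iff eZ).mp (Subtype.ext hab'))
        ((MulEquiv.map_eq_one_iff eD).mp (Subtype.ext hb))
    · rw [Nat.card_prod, h2card, ← Nat.card_congr eA.toEquiv, h60, h120]
  exact ⟨(MulEquiv.ofBijective Φ hΦ).symm⟩

/-- The hypothesis of the recognition theorem. -/
theorem hyp_of_card (h : Nat.card G = 175560) : JankoOrder.Hyp G ∧ ∃ t : G, orderOf t = 2 := by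
  haveI : Fact (Nat.Prime 2) := ⟨Nat.prime_two⟩
  obtain ⟨t, ht⟩ := exists_prime_orderOf_dvd_card' (G := G) 2 (by rw [h]; norm_num)
  obtain ⟨S, htS⟩ := exists_sylow_mem ht
  obtain ⟨e⟩ := centralizer_iso h ht
  exact ⟨JankoOrder.hyp_of_centralizer t ⟨ht, S, htS, fun x hx => sylow_comm h S x hx t htS⟩ e, t, ht⟩

end Cfsg.Agent.Lib.JankoUnique.OrderHyp
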