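import Cfsg.Agent.Lib.JankoUnique.OrderHyp.Dihedral
import Cfsg.Agent.Lib.Bender14.RankOne
import Mathlib

/-!
# Simple groups of order 175560: the Sylow 2-subgroup and its normaliser
-/

set_option autoImplicit false
set_option linter.unusedSectionVars false
set_option linter.style.haveILetI false

namespace Cfsg.Agent.Lib.JankoUnique.OrderHyp

open Subgroup

universe u

variable {G : Type u} [Group G] [Finite G] [IsSimpleGroup G]

theorem not_rankOne (h : Nat.card G = 175560) : ¬ Cfsg.PRankLE 2 1 G := by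
  intro hr
  haveI : Fact (Nat.Prime 2) := ⟨Nat.prime_two⟩
  obtain ⟨t, ht⟩ := exists_prime_orderOf_dvd_card' (G := G) 2 (by rw [h]; norm_num)
  have ht1 : t ≠ 1 := fun e => by rw [e, orderOf_one] at ht; norm_num at ht
  have hbot : Cfsg.oddCore G = ⊥ := by
    haveI := Cfsg.pPrimeCore_normal 2 G
    refine ((inferInstance : (Cfsg.oddCore G).Normal).eq_bot_or_eq_top).resolve_right fun e => ?_
    have := PLayerBasic.oddCore_odd (G := G)
    rw [e, card_top, h] at this
    exact absurd this (by decide)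
  refine centralizer_ne_top h ht1 (eq_top_iff.mpr fun g _ => mem_centralizer_singleton_iff.mpr ?_)
  obtain ⟨y, hy, hc⟩ :=
    Bender14.RankOne.exists_oddCore_mul_commute (Bender14.RankOne.isIsolated hr ht) g
  rw [hbot, mem_bot] at hy
  rwa [hy, one_mul] at hc

/-- The Sylow 2-subgroups are elementary abelian. -/
theorem sylow_sq (h : Nat.card G = 175560) (S : Sylow 2 G) : ∀ x ∈ (S : Subgroup G), x * x = 1 := by
  classical
  haveI : Fact (Nat.Prime 2) := ⟨Nat.prime_two⟩
  suffices hex : ∃ S₀ : Sylow 2 G, ∀ x ∈ (S₀ : Subgroup G), x * x = 1 by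
    obtain ⟨S₀, hS₀⟩ := hex
    obtain ⟨g, hg⟩ := MulAction.exists_smul_eq G S₀ S
    intro x hx
    rw [← hg, Sylow.coe_subgroup_smul] at hx
    obtain ⟨y, hy, rfl⟩ := hx
    show MulAut.conj g y * MulAut.conj g y = 1
    rw [← map_mul, hS₀ y hy, map_one]
  have hr := not_rankOne h
  simp only [Cfsg.PRankLE, not_forall, not_le, pow_one] at hr
  obtain ⟨A, hA, hA2, hcard⟩ := hr
  have hAp : IsPGroup 2 A := fun a => ⟨1, Subtype.ext (by simpa using hA2 a a.2)⟩
  obtain ⟨S₀, hAS⟩ := hAp.exists_le_sylow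
  refine ⟨S₀, ?_⟩
  set P := (S₀ : Subgroup G) with hP
  have h8 : Nat.card P = 8 := card_sylow_two h S₀
  have hA4 : 4 ≤ Nat.card A := by
    obtain ⟨k, hk⟩ := IsPGroup.iff_card.mp hAp
    have h2k : 2 ≤ k := by
      by_contra hlt
      have := Nat.pow_le_pow_right (by norm_num : 1 ≤ 2) (show k ≤ 1 by omega)
      omega
    rw [hk]
    exact le_trans (by norm_num) (Nat.pow_le_pow_right (by norm_num) h2k)
  by_cases hcomm : ∀ a ∈ P, ∀ b ∈ P, a * b = b * a
  · intro x hx
    by_contra hxx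
    let f : P →* P :=
      { toFun := fun a => a * a
        map_one' := one_mul 1
        map_mul' := fun a b => by
          have hab : Commute a b := Subtype.ext (hcomm a a.2 b b.2)
          exact (hab.mul_mul_mul_comm a b).symm }
    have hker : 4 ≤ Nat.card f.ker := by
      refine hA4.trans ?_
      rw [← Nat.card_congr (subgroupOfEquivOfLe hAS).toEquiv]
      exact Nat.le_of_dvd Nat.card_pos (card_dvd_of_le fun a ha =>
        MonoidHom.mem_ker.mpr (Subtype.ext (by
          show (a : G) * a = 1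
          rw [← pow_two]; exact hA2 _ (mem_subgroupOf.mp ha))))
    have hrange : Nat.card f.range ≤ 2 := by
      have := f.ker.card_mul_index
      rw [index_ker, h8] at this
      nlinarith
    have hv : (⟨x * x, mul_mem hx hx⟩ : P) ∈ f.range := ⟨⟨x, hx⟩, rfl⟩
    refine hxx (EightInvolution.eq_one_of_normalizer_fixes (nonab h) S₀ hcomm (mul_mem hx hx)
      fun n hn => ?_)
    by_contra hne
    have hnP : n * x * n⁻¹ ∈ P := (mem_normalizer_iff.mp hn x).mp hx
    have heq : n * (x * x) * n⁻¹ = n * x * n⁻¹ * (n * x * n⁻¹) := by group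
    have hw : (⟨n * (x * x) * n⁻¹, heq ▸ mul_mem hnP hnP⟩ : P) ∈ f.range :=
      ⟨⟨_, hnP⟩, Subtype.ext heq.symm⟩
    have h3 : 3 ≤ Nat.card f.range := by
      have hcw : n * (x * x) * n⁻¹ ≠ 1 := fun e => hxx (conj_eq_one_iff.mp e)
      rw [show Nat.card f.range = (f.range : Set P).ncard from Nat.card_coe_set_eq _,
        ← (Set.ncard_eq_three.mpr ⟨1, ⟨x * x, mul_mem hx hx⟩, ⟨_, heq ▸ mul_mem hnP hnP⟩,
          fun e => hxx (congrArg Subtype.val e).symm, fun e => hcw (congrArg Subtype.val e).symm,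
          fun e => hne (congrArg Subtype.val e).symm, rfl⟩ :
            ({1, ⟨x * x, mul_mem hx hx⟩, ⟨_, heq ▸ mul_mem hnP hnP⟩} : Set P).ncard = 3)]
      refine Set.ncard_le_ncard ?_ (Set.toFinite _)
      rintro a (rfl | rfl | rfl)
      exacts [one_mem _, hv, hw]
    omega
  -- the non-abelian case is dihedral
  exfalso
  have hσ : ∃ σ ∈ P, σ * σ ≠ 1 := by
    by_contra hall
    push Not at hall
    refine hcomm fun a ha b hb => ?_
    have e := hall _ (mul_mem ha hb)
    rw [mul_eq_one_iff_eq_inv, mul_inv_rev, inv_eq_of_mul_eq_one_right (hall a ha),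
      inv_eq_of_mul_eq_one_right (hall b hb)] at e
    exact e
  obtain ⟨σ, hσP, hσσ⟩ := hσ
  have hσ4 : orderOf σ = 4 := by
    have hd : orderOf σ ∣ 2 ^ 3 := by
      rw [show (2 : ℕ) ^ 3 = 8 by norm_num, ← h8]
      exact Subgroup.orderOf_dvd_natCard _ hσP
    obtain ⟨k, hk, ho⟩ := (Nat.dvd_prime_pow Nat.prime_two).mp hd
    interval_cases k
    · exact absurd (by rw [orderOf_eq_one_iff.mp (show orderOf σ = 1 by simpa using ho), one_mul]) hσσ
    · exact absurd (by rw [← pow_two, show (2 : ℕ) = orderOf σ by rw [ho]; norm_num, pow_orderOf_eq_one]) hσσ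
    · exact ho.trans (by norm_num)
    · have htop : zpowers σ = P := eq_of_le_of_card_ge (zpowers_le.mpr hσP)
        (by rw [Nat.card_zpowers, ho, h8]; norm_num)
      refine absurd (fun a ha b hb => ?_) hcomm
      rw [← htop] at ha hb
      obtain ⟨i, rfl⟩ := mem_zpowers_iff.mp ha
      obtain ⟨j, rfl⟩ := mem_zpowers_iff.mp hb
      exact zpow_mul_comm σ i j
  have hzmod : ∀ i : ℤ, σ ^ i = σ ^ (i % 4) := fun i => by
    have := zpow_mod_orderOf σ i
    rw [hσ4] at this
    exact_mod_cast this.symm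
  obtain ⟨τ, hτA, hτσ⟩ : ∃ τ ∈ A, τ ∉ zpowers σ := by
    by_contra hall
    push Not at hall
    have hsub : (A : Set G) ⊆ {1, σ * σ} := by
      intro a ha
      obtain ⟨i, rfl⟩ := mem_zpowers_iff.mp (hall a ha)
      have h2 : σ ^ (2 * i) = 1 := by
        have := hA2 _ ha
        rw [pow_two, ← zpow_add] at this
        rwa [two_mul]
      have h4 : (4 : ℤ) ∣ 2 * i := by
        have := orderOf_dvd_iff_zpow_eq_one.mpr h2
        rwa [hσ4] at this
      rcases (show i % 4 = 0 ∨ i % 4 = 2 by omega) with h' | h' <;> rw [hzmod i, h']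
      · exact Or.inl (zpow_zero σ)
      · exact Or.inr (zpow_two σ)
    have h2 := (Set.ncard_le_ncard hsub (Set.toFinite _)).trans (Set.ncard_insert_le _ _)
    rw [Set.ncard_singleton, show (A : Set G).ncard = Nat.card A from (Nat.card_coe_set_eq _).symm] at h2
    omega
  have hτ2 : orderOf τ = 2 := orderOf_eq_prime (hA2 τ hτA) fun e => hτσ (e ▸ one_mem _)
  have hττ : τ * τ = 1 := by rw [← pow_two]; exact hA2 τ hτA
  have hidx : ((zpowers σ).subgroupOf P).index = 2 := by
    have hle : zpowers σ ≤ P := zpowers_le.mpr hσP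
    have := ((zpowers σ).subgroupOf P).card_mul_index
    rw [Nat.card_congr (subgroupOfEquivOfLe hle).toEquiv, Nat.card_zpowers, hσ4, h8] at this
    omega
  have hτP : τ ∈ P := hAS hτA
  have hrest : ∀ g ∈ P, g ∈ zpowers σ ∨ τ * g ∈ zpowers σ := by
    intro g hg
    by_cases hgz : g ∈ zpowers σ
    · exact Or.inl hgz
    right
    exact mem_subgroupOf.mp ((mul_mem_iff_of_index_two hidx (a := (⟨τ, hτP⟩ : P))
      (b := ⟨g, hg⟩)).mpr (iff_of_false (fun hh => hτσ (mem_subgroupOf.mp hh))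
        fun hh => hgz (mem_subgroupOf.mp hh)))
  have hrel : τ * σ * τ⁻¹ = σ⁻¹ := by
    haveI := normal_of_index_eq_two hidx
    have hmem : τ * σ * τ⁻¹ ∈ zpowers σ := by
      have := ‹((zpowers σ).subgroupOf P).Normal›.conj_mem ⟨σ, hσP⟩
        (mem_subgroupOf.mpr (mem_zpowers σ)) ⟨τ, hτP⟩
      exact mem_subgroupOf.mp this
    obtain ⟨i, hi⟩ := mem_zpowers_iff.mp hmem
    rw [hzmod i] at hi
    rcases (show i % 4 = 0 ∨ i % 4 = 1 ∨ i % 4 = 2 ∨ i % 4 = 3 by omega) with h' | h' | h' | h' <;>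
      rw [h'] at hi
    · exfalso
      rw [zpow_zero] at hi
      exact hσσ (by rw [conj_eq_one_iff.mp hi.symm, one_mul])
    · exfalso
      rw [zpow_one] at hi
      have hc : σ * τ = τ * σ := by
        conv_lhs => rw [hi]
        rw [inv_mul_cancel_right]
      refine hcomm fun a ha b hb => ?_
      have hall : ∀ g ∈ P, ∃ i : ℤ, g = σ ^ i ∨ g = τ * σ ^ i := fun g hg => by
        rcases hrest g hg with hh | hh <;> obtain ⟨j, hj⟩ := mem_zpowers_iff.mp hh
        · exact ⟨j, Or.inl hj.symm⟩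
        · exact ⟨j, Or.inr (by rw [hj, ← mul_assoc, hττ, one_mul])⟩
      have hcz : ∀ j : ℤ, Commute τ (σ ^ j) := fun j => (Commute.zpow_right (show Commute τ σ from hc.symm) j)
      obtain ⟨j, rfl | rfl⟩ := hall a ha <;> obtain ⟨k, rfl | rfl⟩ := hall b hb
      · exact zpow_mul_comm σ j k
      · exact ((hcz j).symm.mul_right (Commute.zpow_zpow_self σ j k)).eq
      · exact ((hcz k).mul_left (Commute.zpow_zpow_self σ j k)).eq
      · exact (((Commute.refl τ).mul_right (hcz k)).mul_left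
          ((hcz j).symm.mul_right (Commute.zpow_zpow_self σ j k))).eq
    · exfalso
      have e : τ * (σ * σ) * τ⁻¹ = 1 := by
        rw [show τ * (σ * σ) * τ⁻¹ = τ * σ * τ⁻¹ * (τ * σ * τ⁻¹) by group, ← hi, ← zpow_add]
        show σ ^ ((4 : ℕ) : ℤ) = 1
        rw [zpow_natCast, ← hσ4, pow_orderOf_eq_one]
      exact hσσ (conj_eq_one_iff.mp e)
    · rw [← hi, ← zpow_neg_one, hzmod (-1)]
      norm_num
  exact D8.elim h (S := S₀) ⟨hσP, hτP, hσ4, hτ2, hrel, hτσ, hrest⟩

theorem sylow_comm (h : Nat.card G = 175560) (S : Sylow 2 G) :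
    ∀ a ∈ (S : Subgroup G), ∀ b ∈ (S : Subgroup G), a * b = b * a := fun a ha b hb => by
  have e := sylow_sq h S _ (mul_mem ha hb)
  rw [mul_eq_one_iff_eq_inv, mul_inv_rev, inv_eq_of_mul_eq_one_right (sylow_sq h S a ha),
    inv_eq_of_mul_eq_one_right (sylow_sq h S b hb)] at e
  exact e

/-- The normaliser of a Sylow 2-subgroup. -/
theorem sylow_normalizer (h : Nat.card G = 175560) (S : Sylow 2 G) :
    centralizer ((S : Subgroup G) : Set G) = (S : Subgroup G) ∧
      (Nat.card (normalizer ((S : Subgroup G) : Set G)) = 56 ∨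
        Nat.card (normalizer ((S : Subgroup G) : Set G)) = 168) ∧
      ∀ v ∈ (S : Subgroup G), v ≠ 1 → ∀ w ∈ (S : Subgroup G), w ≠ 1 →
        ∃ n ∈ normalizer ((S : Subgroup G) : Set G), n * v * n⁻¹ = w := by
  classical
  haveI : Fact (Nat.Prime 2) := ⟨Nat.prime_two⟩
  have hc := sylow_comm h S
  have h8 := card_sylow_two h S
  have h2 : ∀ x : (S : Subgroup G), x ^ 2 = 1 := fun x => Subtype.ext (by
    rw [pow_two]; exact sylow_sq h S x x.2)
  set N := normalizer ((S : Subgroup G) : Set G) with hN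
  let φ : N →* MulAut (S : Subgroup G) := (S : Subgroup G).normalizerMonoidHom
  set R := φ.range with hR
  have hcardR : (centralizer ((S : Subgroup G) : Set G)).relIndex N = Nat.card R := by
    rw [Subgroup.relIndex, ← normalizerMonoidHom_ker, index_ker]
  have hRodd : Odd (Nat.card R) := by
    rw [← hcardR, ← Nat.not_even_iff_odd, even_iff_two_dvd]
    intro hd
    refine S.not_dvd_index (hd.trans ?_)
    refine (index_dvd_of_le (H := (S : Subgroup G).subgroupOf N)
      (K := (centralizer ((S : Subgroup G) : Set G)).subgroupOf N) fun x hx => ?_).trans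
      (Dvd.intro _ (relIndex_mul_index (K := N) le_normalizer))
    exact mem_centralizer_iff.2 fun s hs => (hc x hx s hs).symm
  -- orbits of the automiser on the seven involutions
  let O : ↥(S : Subgroup G) → Set ↥(S : Subgroup G) := fun v => MulAction.orbit R v
  have hmul : ∀ v, (O v).ncard * Nat.card (MulAction.stabilizer R v) = Nat.card R := fun v => by
    rw [← (MulAction.stabilizer R v).card_mul_index, MulAction.index_stabilizer, mul_comm]
  have hoddO : ∀ v, Odd (O v).ncard := fun v => (Nat.odd_mul.1 (by rw [hmul v]; exact hRodd)).1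
  have hne1 : ∀ v : (S : Subgroup G), v ≠ 1 → ∀ w ∈ O v, w ≠ 1 := by
    rintro v hv _ ⟨r, rfl⟩ he
    exact hv ((r : MulAut (S : Subgroup G)).injective (he.trans (map_one _).symm))
  have hbig : ∀ v : (S : Subgroup G), v ≠ 1 → 3 ≤ (O v).ncard := by
    intro v hv
    have h1 : (O v).ncard ≠ 1 := by
      intro h1
      obtain ⟨w, hw⟩ := Set.ncard_eq_one.mp h1
      refine hv (Subtype.ext (EightInvolution.eq_one_of_normalizer_fixes (nonab h) S hc v.2
        fun n hn => ?_))
      have e1 : v ∈ O v := MulAction.mem_orbit_self v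
      have e2 : φ ⟨n, hn⟩ v ∈ O v := ⟨⟨_, ⟨_, rfl⟩⟩, rfl⟩
      rw [hw, Set.mem_singleton_iff] at e1 e2
      exact congrArg Subtype.val (e2.trans e1.symm)
    have := Set.ncard_pos (Set.toFinite _) |>.mpr (⟨v, MulAction.mem_orbit_self v⟩ : (O v).Nonempty)
    obtain ⟨k, hk⟩ := hoddO v
    omega
  set U : Set (S : Subgroup G) := {1}ᶜ with hU
  have hU7 : U.ncard = 7 := by
    rw [hU, Set.ncard_compl, h8, Set.ncard_singleton]
  have hsubU : ∀ v : (S : Subgroup G), v ≠ 1 → O v ⊆ U := fun v hv w hw => hne1 v hv w hw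
  have htrans : ∀ v : (S : Subgroup G), v ≠ 1 → O v = U := by
    intro v hv
    by_contra hne
    obtain ⟨w, hwU, hwv⟩ := Set.exists_of_ssubset ((hsubU v hv).ssubset_of_ne hne)
    have hdis : ∀ a b : (S : Subgroup G), b ∉ O a → Disjoint (O a) (O b) := fun a b hb =>
      (MulAction.orbit.eq_or_disjoint a b).resolve_left fun e => hb (by
        show b ∈ MulAction.orbit R a
        rw [e]; exact MulAction.mem_orbit_self b)
    have hsub2 : O v ∪ O w ⊆ U := Set.union_subset (hsubU v hv) (hsubU w hwU)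
    have hcard2 := Set.ncard_union_eq (hdis v w hwv) (Set.toFinite _) (Set.toFinite _)
    have hle := Set.ncard_le_ncard hsub2 (Set.toFinite _)
    rw [hcard2, hU7] at hle
    have h3v := hbig v hv
    have h3w := hbig w hwU
    by_cases heq : O v ∪ O w = U
    · rw [heq, hU7] at hcard2
      obtain ⟨a, ha⟩ := hoddO v
      obtain ⟨b, hb⟩ := hoddO w
      omega
    obtain ⟨x, hxU, hx⟩ := Set.exists_of_ssubset (hsub2.ssubset_of_ne heq)
    simp only [Set.mem_union, not_or] at hx
    have hle3 := Set.ncard_le_ncard (Set.union_subset hsub2 (hsubU x hxU)) (Set.toFinite _)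
    rw [Set.ncard_union_eq (Set.disjoint_union_left.2 ⟨hdis v x hx.1, hdis w x hx.2⟩)
      (Set.toFinite _) (Set.toFinite _), hcard2, hU7] at hle3
    have := hbig x hxU
    omega
  haveI : Nontrivial (S : Subgroup G) := Finite.one_lt_card_iff_nontrivial.1 (by rw [h8]; norm_num)
  obtain ⟨v, hv⟩ := exists_ne (1 : (S : Subgroup G))
  have hR7 := hmul v
  rw [htrans v hv, hU7] at hR7
  -- an element of order seven
  have h7N : 7 ∣ Nat.card N := (Dvd.intro _ hR7).trans (card_range_dvd φ)
  haveI : Fact (Nat.Prime 7) := ⟨by norm_num⟩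
  obtain ⟨y, hy⟩ := exists_prime_orderOf_dvd_card' (G := N) 7 h7N
  have hC := card_centralizer_sylow h S hc ((Subgroup.orderOf_coe y).trans hy) y.2
  refine ⟨hC, ?_, ?_⟩
  · have hst : Nat.card (MulAction.stabilizer R v) ∣ 3 := by
      rw [← card_map_of_injective (K := MulAction.stabilizer R v) R.subtype_injective]
      refine EightInvolution.card_dvd_three h8 h2 _ ?_ hv fun r hr => ?_
      · exact EightInvolution.odd_of_dvd (card_dvd_of_le (map_subtype_le _)) hRodd
      · obtain ⟨r', hr', rfl⟩ := hr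
        exact hr'
    have hNcard : Nat.card N = 8 * Nat.card R := by
      rw [← hcardR, hC, Subgroup.relIndex, ← h8,
        ← Nat.card_congr (subgroupOfEquivOfLe (le_normalizer (H := (S : Subgroup G)))).toEquiv]
      exact (card_mul_index _).symm
    rcases (Nat.dvd_prime Nat.prime_three).1 hst with h1 | h3
    · left; rw [hNcard, ← hR7, h1]
    · right; rw [hNcard, ← hR7, h3]
  · intro a ha ha1 b hb hb1
    have hm : (⟨b, hb⟩ : (S : Subgroup G)) ∈ O ⟨a, ha⟩ := by
      rw [htrans _ fun e => ha1 (congrArg Subtype.val e)]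
      exact fun e => hb1 (congrArg Subtype.val e)
    obtain ⟨⟨_, n, rfl⟩, hr⟩ := hm
    exact ⟨n, n.2, congrArg Subtype.val hr⟩

/-- All involutions are conjugate. -/
theorem isConj_involutions (h : Nat.card G = 175560) {v w : G} (hv : orderOf v = 2)
    (hw : orderOf w = 2) : IsConj v w := by
  haveI : Fact (Nat.Prime 2) := ⟨Nat.prime_two⟩
  obtain ⟨S⟩ := (inferInstance : Nonempty (Sylow 2 G))
  have hinto : ∀ x : G, orderOf x = 2 → ∃ g : G, g * x * g⁻¹ ∈ (S : Subgroup G) ∧ g * x * g⁻¹ ≠ 1 := by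
    intro x hx
    have hp : IsPGroup 2 (zpowers x) := IsPGroup.of_card (n := 1) (by rw [Nat.card_zpowers, hx, pow_one])
    obtain ⟨Q, hQ⟩ := hp.exists_le_sylow
    obtain ⟨g, hg⟩ := MulAction.exists_smul_eq G Q S
    refine ⟨g, ?_, fun e => ?_⟩
    · rw [← hg, Sylow.coe_subgroup_smul]
      exact ⟨x, hQ (mem_zpowers x), rfl⟩
    · rw [conj_eq_one_iff.mp e, orderOf_one] at hx; norm_num at hx
  obtain ⟨a, haS, ha1⟩ := hinto v hv
  obtain ⟨b, hbS, hb1⟩ := hinto w hw
  obtain ⟨n, -, hn⟩ := (sylow_normalizer h S).2.2 _ haS ha1 _ hbS hb1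
  exact isConj_iff.mpr ⟨b⁻¹ * n * a, by
    calc b⁻¹ * n * a * v * (b⁻¹ * n * a)⁻¹ = b⁻¹ * (n * (a * v * a⁻¹) * n⁻¹) * b := by group
      _ = b⁻¹ * (b * w * b⁻¹) * b := by rw [hn]
      _ = w := by group⟩

end Cfsg.Agent.Lib.JankoUnique.OrderHyp
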